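import Cfsg.Agent.Lib.Thompson.ExtraspecialBasis
import Cfsg.Agent.Lib.Transfer.Fusion
import Cfsg.Agent.Lib.UniqueInvolution
import Mathlib.LinearAlgebra.Matrix.SpecialLinearGroup
import Mathlib.LinearAlgebra.Matrix.Notation
import Mathlib.GroupTheory.SpecificGroups.Quaternion

/-!
Automorphisms of odd order of quaternion groups, and `SL(2,3)` sections.
-/

set_option autoImplicit false

namespace Cfsg.Agent.Lib.Thompson.Quat

open Subgroup
open scoped commutatorElement

/-- Unique involution. -/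
theorem sq_eq_one {n : ℕ} [NeZero n] (q : QuaternionGroup n) (h : q ^ 2 = 1) :
    q = 1 ∨ q = QuaternionGroup.a (n : ZMod (2 * n)) := by
  have hxa : ∀ i : ZMod (2 * n), (QuaternionGroup.xa i : QuaternionGroup n) ^ 2 ≠ 1 := fun i h => by
    have h1 := orderOf_dvd_of_pow_eq_one h
    rw [QuaternionGroup.orderOf_xa] at h1
    exact absurd (Nat.le_of_dvd two_pos h1) (by norm_num)
  cases q with
  | xa i => exact absurd h (hxa i)
  | a i =>
    have h1 := orderOf_dvd_of_pow_eq_one h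
    rw [QuaternionGroup.orderOf_a, Nat.dvd_prime Nat.prime_two] at h1
    have hpos : 0 < n := NeZero.pos n
    have hg : (2 * n).gcd i.val * ((2 * n) / (2 * n).gcd i.val) = 2 * n :=
      Nat.mul_div_cancel' (Nat.gcd_dvd_left _ _)
    rcases h1 with h1 | h1
    · rw [h1, mul_one] at hg
      have hd : 2 * n ∣ i.val := by
        have := Nat.gcd_dvd_right (2 * n) i.val
        rwa [hg] at this
      have : i.val = 0 := Nat.eq_zero_of_dvd_of_lt hd i.val_lt
      left
      rw [(ZMod.val_eq_zero i).mp this]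
      rfl
    · rw [h1] at hg
      have hn : (2 * n).gcd i.val = n := by omega
      have hd : n ∣ i.val := by
        have := Nat.gcd_dvd_right (2 * n) i.val
        rwa [hn] at this
      obtain ⟨k, hk⟩ := hd
      have hlt := i.val_lt
      rw [hk] at hlt
      have hk2 : k < 2 := by
        by_contra h2
        have := Nat.mul_le_mul_left n (Nat.le_of_not_lt h2)
        omega
      rw [← ZMod.natCast_zmod_val i, hk]
      interval_cases k
      · left; simp
      · right; simp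

/-- An automorphism of odd order of a cyclic 2-group is trivial. -/
theorem aut_cyclic_trivial {C : Type*} [Group C] [Finite C] [IsCyclic C] (hC : IsPGroup 2 C)
    (φ : MulAut C) (hφ : (orderOf φ).Coprime 2) : φ = 1 := by
  haveI : Fact (Nat.Prime 2) := ⟨Nat.prime_two⟩
  obtain ⟨k, hk⟩ := IsPGroup.iff_card.mp hC
  have hA : IsPGroup 2 (MulAut C) := by
    cases k with
    | zero => exact IsPGroup.of_card (n := 0) (by rw [IsCyclic.card_mulAut, hk]; simp)
    | succ k =>
      exact IsPGroup.of_card (n := k) (by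
        rw [IsCyclic.card_mulAut, hk, Nat.totient_prime_pow_succ Nat.prime_two]; simp)
  exact Transfer.eq_one_of_isPGroup_of_coprime hA hφ

/-- An automorphism of odd order of a generalized quaternion group of order at least 16 is trivial. -/
theorem aut_big_trivial {m : ℕ} [NeZero m] (h4 : 3 ≤ m) (hQ : IsPGroup 2 (QuaternionGroup m))
    (φ : MulAut (QuaternionGroup m)) (hφ : (orderOf φ).Coprime 2) : φ = 1 := by
  haveI : Fact (Nat.Prime 2) := ⟨Nat.prime_two⟩
  let x : QuaternionGroup m := QuaternionGroup.a 1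
  set C := zpowers x with hC
  have hmem : ∀ i : ZMod (2 * m), (QuaternionGroup.a i : QuaternionGroup m) ∈ C := fun i => by
    refine ⟨(i.val : ℤ), ?_⟩
    show x ^ (i.val : ℤ) = _
    rw [zpow_natCast, QuaternionGroup.a_one_pow, ZMod.natCast_zmod_val]
  have hstep : ∀ ψ : MulAut (QuaternionGroup m), ψ x ∈ C := fun ψ => by
    rcases hψ : ψ x with i | i
    · exact hmem i
    · have h := MulEquiv.orderOf_eq ψ x
      rw [hψ, QuaternionGroup.orderOf_xa, show orderOf x = 2 * m from QuaternionGroup.orderOf_a_one] at h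
      omega
  haveI hCc : C.Characteristic := characteristic_iff_map_le.mpr fun ψ => by
    rw [hC, MonoidHom.map_zpowers, zpowers_le]; exact hstep ψ
  let φC : MulAut C := (φ.subgroupMap C).trans
    (MulEquiv.subgroupCongr (Subgroup.characteristic_iff_map_eq.mp hCc φ))
  have hpow : ∀ (j : ℕ) (c : C), (((φC ^ j) c : C) : QuaternionGroup m) = (φ ^ j) c := by
    intro j c
    induction j with
    | zero => rfl
    | succ j ih => rw [pow_succ', pow_succ', MulAut.mul_apply, MulAut.mul_apply, ← ih]; rfl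
  have hφC : φC = 1 := aut_cyclic_trivial (hQ.to_subgroup C) φC
    (hφ.coprime_dvd_left (orderOf_dvd_of_pow_eq_one (MulEquiv.ext fun c => Subtype.ext (by
      rw [hpow, pow_orderOf_eq_one]; rfl))))
  have hfix : ∀ c ∈ C, φ c = c := fun c hc => by
    have := congrArg Subtype.val (DFunLike.congr_fun hφC (⟨c, hc⟩ : C))
    exact this
  refine MulEquiv.ext fun g => ?_
  rw [MulAut.one_apply]
  refine eq_self_of_coprime hQ hφ (hfix _ ?_)
  rcases g with i | i
  · rw [hfix _ (hmem i)]; exact mul_mem (inv_mem (hmem i)) (hmem i)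
  · rcases hψ : φ (QuaternionGroup.xa i) with j | j
    · exfalso
      have h1 : φ (QuaternionGroup.xa i) = φ (QuaternionGroup.a j) := by rw [hfix _ (hmem j), hψ]
      exact absurd (φ.injective h1) (by simp)
    · change QuaternionGroup.xa ((m : ZMod (2 * m)) + i) * QuaternionGroup.xa j ∈ C
      rw [QuaternionGroup.xa_mul_xa]
      exact hmem _

private abbrev Q8 := QuaternionGroup 2

theorem q8_rel₁ : ∀ u v : Q8, u ^ 2 ≠ 1 → v ^ 2 ≠ 1 → v ≠ u → v ≠ u * u * u →
    u * v = (u * u) * (v * u) := by decide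

theorem q8_rel₂ : ∀ u v : Q8, u ^ 2 ≠ 1 → v ^ 2 ≠ 1 → v ≠ u → v ≠ u * u * u → v * v = u * u := by decide

theorem q8_rel₃ : ∀ u v : Q8, u ^ 2 ≠ 1 → v ^ 2 ≠ 1 → v ≠ u → v ≠ u * u * u → v * (u * v) = u := by decide

theorem q8_all : ∀ u v w : Q8, u ^ 2 ≠ 1 → v ^ 2 ≠ 1 → v ≠ u → v ≠ u * u * u →
    w = 1 ∨ w = u * u ∨ w = u ∨ w = u * u * u ∨ w = v ∨ w = v * v * v ∨ w = u * v ∨ w = v * u := by decide

theorem q8_commutator (u v : Q8) (hu : u ^ 2 ≠ 1) (hv : v ^ 2 ≠ 1) (h1 : v ≠ u) (h2 : v ≠ u * u * u) :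
    u * v * u⁻¹ * v⁻¹ = u * u ∧ v * v = u * u ∧ v * (u * v) = u ∧
      ∀ w : Q8, w = 1 ∨ w = u * u ∨ w = u ∨ w = u * u * u ∨ w = v ∨ w = v * v * v ∨ w = u * v ∨ w = v * u :=
  ⟨by rw [q8_rel₁ u v hu hv h1 h2]; group, q8_rel₂ u v hu hv h1 h2, q8_rel₃ u v hu hv h1 h2,
    fun w => q8_all u v w hu hv h1 h2⟩

theorem q8_cube : ∀ w : Q8, (w * w * w) * (w * w * w) * (w * w * w) = w := by decide

theorem q8_other : ∀ u : Q8, u ^ 2 ≠ 1 → ∃ v : Q8, v ^ 2 ≠ 1 ∧ v ≠ u ∧ v ≠ u * u * u := by decide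

theorem q8_swap : ∀ u v : Q8, u ^ 2 ≠ 1 → v ^ 2 ≠ 1 → v ≠ u → v ≠ u * u * u →
    u ≠ v * v * v ∧ v * u ≠ v ∧ u * v ≠ v ∧ v * (v * u) = u * u * u ∧ v * u * v = u ∧ v * u ≠ u ∧
      v * u ≠ u * u * u ∧ u * (v * u) = v ∧ v = u * (v * u) := by decide

theorem q8_central : ∀ u w : Q8, u ^ 2 ≠ 1 → u * u * w = w * (u * u) := by decide

theorem q8_four : ∀ u : Q8, u * u * (u * u) = 1 := by decide

/-- An automorphism of odd order `≠ 1` of the quaternion group of order 8. -/
theorem aut_q8 (φ : MulAut Q8) (hφ : (orderOf φ).Coprime 2) (hne : φ ≠ 1) :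
    φ ^ 3 = 1 ∧ ∃ u : Q8, u ^ 2 ≠ 1 ∧ φ u ≠ u ∧ φ u ≠ u * u * u ∧
      (φ (φ u) = u * φ u ∨ φ (φ u) = φ u * u) := by
  obtain ⟨l, hl⟩ := exists_pow_eq_self_of_coprime (x := φ) hφ.symm
  have hsq : ∀ w : Q8, φ (φ w) = w → φ w = w := fun w h => by
    have hst : φ ^ 2 ∈ MulAction.stabilizer (MulAut Q8) w := by
      show (φ ^ 2) w = w
      rw [pow_two, MulAut.mul_apply, h]
    have := pow_mem hst l
    rw [hl] at this
    exact this
  have hsq4 : ∀ w : Q8, φ (φ (φ (φ w))) = w → φ w = w := fun w h => by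
    refine hsq w ?_
    have hst : (φ ^ 2) ^ 2 ∈ MulAction.stabilizer (MulAut Q8) w := by
      show ((φ ^ 2) ^ 2) w = w
      simp only [pow_two, MulAut.mul_apply, h]
    have h2 := pow_mem hst l
    rw [← pow_mul, mul_comm, pow_mul, hl] at h2
    have h3 : (φ ^ 2) w = w := h2
    rwa [pow_two, MulAut.mul_apply] at h3
  have hcube : ∀ w : Q8, w ^ 2 ≠ 1 → φ w = w * w * w → False := fun w hw h => by
    have h2 : φ (φ w) = w := by
      rw [h, map_mul, map_mul, h, q8_cube]
    rw [hsq w h2] at h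
    apply hw
    have : w * (w * w) = w * 1 := by rw [← mul_assoc, ← h, mul_one]
    rw [pow_two]
    exact mul_left_cancel this
  have hnfix : ∀ u : Q8, u ^ 2 ≠ 1 → φ u ≠ u := by
    intro u hu h
    obtain ⟨v, hv, hvu, hvu'⟩ := q8_other u hu
    obtain ⟨-, -, -, hall⟩ := q8_commutator u v hu hv hvu hvu'
    obtain ⟨-, n1, n2, -⟩ := q8_swap u v hu hv hvu hvu'
    refine hne (MulEquiv.ext fun w => ?_)
    have hv' : φ v = v := by
      have hφv : (φ v) ^ 2 ≠ 1 := fun e => hv (φ.injective (by rw [map_pow, e, map_one]))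
      rcases hall (φ v) with e | e | e | e | e | e | e | e
      · exact absurd (by rw [e, one_pow]) hφv
      · exact absurd (by rw [e, pow_two, q8_four]) hφv
      · exact absurd (φ.injective (e.trans h.symm)) hvu
      · exact absurd (φ.injective (e.trans (by rw [map_mul, map_mul, h]))) hvu'
      · exact e
      · exact (hcube v hv e).elim
      · refine hsq4 v ?_
        simp only [e, map_mul, h]
        rw [← mul_assoc, ← mul_assoc, ← mul_assoc, mul_assoc (u * u), q8_four, one_mul]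
      · refine hsq4 v ?_
        simp only [e, map_mul, h]
        rw [mul_assoc, mul_assoc, mul_assoc, ← mul_assoc u u (u * u), q8_four, mul_one]
    rcases hall w with e | e | e | e | e | e | e | e <;> simp [e, h, hv']
  let u : Q8 := QuaternionGroup.a 1
  have hu : u ^ 2 ≠ 1 := by decide
  set v := φ u with hv
  have hvu : v ≠ u := hnfix u hu
  have hvu' : v ≠ u * u * u := fun e => hcube u hu e
  have hv2 : v ^ 2 ≠ 1 := fun e => hu (φ.injective (by rw [map_pow, ← hv, e, map_one]))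
  obtain ⟨hc, hvv, hvuv, hall⟩ := q8_commutator u v hu hv2 hvu hvu'
  set w := φ v with hw
  have hw2 : w ^ 2 ≠ 1 := fun e => hv2 (φ.injective (by rw [map_pow, ← hw, e, map_one]))
  have hkey : w = u * v ∨ w = v * u := by
    rcases hall w with e | e | e | e | e | e | e | e
    · exact absurd (by rw [e, one_pow]) hw2
    · exact absurd (by rw [e, pow_two, q8_four]) hw2
    · exact absurd (hsq u (by rw [← hv, ← hw, e])) hvu
    · exact absurd (hsq4 u (by
        have h2 : φ (φ u) = u * u * u := by rw [← hv, ← hw, e]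
        rw [h2, map_mul, map_mul, map_mul, map_mul, h2, q8_cube])) hvu
    · exact absurd (φ.injective (show φ v = φ u by rw [← hw, e, hv])) hvu
    · exact (hcube v hv2 e).elim
    · exact Or.inl e
    · exact Or.inr e
  refine ⟨?_, u, hu, hvu, hvu', hkey⟩
  have h3 : φ w = u := by
    rcases hkey with e | e
    · rw [e, map_mul, ← hv, ← hw, e, hvuv]
    · rw [e, map_mul, ← hv, ← hw, e]
      exact (q8_swap u v hu hv2 hvu hvu').2.2.2.2.1
  refine MulEquiv.ext fun g => ?_
  simp only [pow_succ, pow_zero, one_mul, MulAut.mul_apply, MulAut.one_apply]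
  have e1 : φ (φ (φ u)) = u := by rw [← hv, ← hw, h3]
  have e2 : φ (φ (φ v)) = v := by rw [← hw, h3]
  rcases hall g with e | e | e | e | e | e | e | e <;> simp [e, e1, e2]

/-- The generator of order three. -/
def slT : Matrix.SpecialLinearGroup (Fin 2) (ZMod 3) := ⟨!![1, 1; 0, 1], by decide⟩

/-- An element of order four. -/
def slI : Matrix.SpecialLinearGroup (Fin 2) (ZMod 3) := ⟨!![0, 2; 1, 0], by decide⟩

/-- Its conjugate. -/
def slJ : Matrix.SpecialLinearGroup (Fin 2) (ZMod 3) := ⟨!![1, 1; 1, 2], by decide⟩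

theorem sl_facts : slT ^ 3 = 1 ∧ slI * slI = slJ * slJ ∧ (slI * slI) ^ 2 = 1 ∧
    slI * slJ * slI⁻¹ * slJ⁻¹ = slI * slI ∧ slJ * slI * slJ⁻¹ * slI⁻¹ = slI * slI ∧
    slT * slI * slT⁻¹ = slJ ∧ slT * slJ * slT⁻¹ = slI * slJ ∧ slT * (slI * slI) * slT⁻¹ = slI * slI := by
  decide +kernel

theorem sl_all : ∀ M : Matrix.SpecialLinearGroup (Fin 2) (ZMod 3), M * (slI * slI) = (slI * slI) * M ∧
    ∃ a : Fin 4, ∃ b : Fin 4, ∃ c : Fin 3, M = slI ^ (a : ℕ) * slJ ^ (b : ℕ) * slT ^ (c : ℕ) := by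
  decide +kernel

theorem sl_card : Fintype.card (Matrix.SpecialLinearGroup (Fin 2) (ZMod 3)) = 24 := by decide +kernel

/-- The product of two matching quaternion data is a graph. -/
theorem iso_SL23 {X : Type*} [Group X] [Finite X] (hX : Nat.card X = 24) {i j t : X}
    (hz2 : (i * i) ^ 2 = 1) (hzc : ∀ g, Commute (i * i) g) (hjj : j * j = i * i)
    (hij : i * j * i⁻¹ * j⁻¹ = i * i) (hji : j * i * j⁻¹ * i⁻¹ = i * i)
    (ht : t ^ 3 = 1) (hti : t * i * t⁻¹ = j) (htj : t * j * t⁻¹ = i * j)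
    (hgen : closure ({i, j, t} : Set X) = ⊤) :
    Nonempty (X ≃* Matrix.SpecialLinearGroup (Fin 2) (ZMod 3)) := by
  haveI : Fact (Nat.Prime 2) := ⟨Nat.prime_two⟩
  obtain ⟨sT, sJJ, sZ, sIJ, sJI, sTI, sTJ, sTZ⟩ := sl_facts
  let A : Matrix.SpecialLinearGroup (Fin 2) (ZMod 3) × X := (slI, i)
  let B : Matrix.SpecialLinearGroup (Fin 2) (ZMod 3) × X := (slJ, j)
  let T : Matrix.SpecialLinearGroup (Fin 2) (ZMod 3) × X := (slT, t)
  let Z : Matrix.SpecialLinearGroup (Fin 2) (ZMod 3) × X := (slI * slI, i * i)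
  let f : Fin 2 → Matrix.SpecialLinearGroup (Fin 2) (ZMod 3) × X := ![A, B]
  set S := closure (Set.range f) ⊔ zpowers Z with hS
  have hSc : Nat.card S ≤ 2 ^ 3 := by
    have hAB : ⁅A, B⁆ = Z := Prod.ext sIJ hij
    have hBA : ⁅B, A⁆ = Z := Prod.ext sJI hji
    have h := Extra.card_closure_le (p := 2) (z := Z) (Prod.ext sZ hz2)
      (fun g => Prod.ext (sl_all g.1).1.symm (hzc g.2).eq) f
      (Fin.forall_fin_two.mpr ⟨Fin.forall_fin_two.mpr ⟨⟨0, by simp [f]⟩, ⟨1, by simp [f, hAB]⟩⟩,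
        Fin.forall_fin_two.mpr ⟨⟨1, by simp [f, hBA]⟩, ⟨0, by simp [f]⟩⟩⟩)
      (Fin.forall_fin_two.mpr ⟨⟨1, by simp [f, A, Z, pow_two]⟩,
        ⟨1, by simp [f, B, Z, pow_two, sJJ, hjj]⟩⟩)
    simpa using h
  have hA : A ∈ S := mem_sup_left (subset_closure ⟨0, rfl⟩)
  have hB : B ∈ S := mem_sup_left (subset_closure ⟨1, rfl⟩)
  have hn : zpowers T ≤ normalizer (S : Set _) := by
    refine zpowers_le.mpr (Subgroup.mem_normalizer_iff_map_conj_eq.mpr
      (eq_of_le_of_card_ge ?_ (by rw [card_map_of_injective (MulAut.conj T).injective])))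
    rw [map_le_iff_le_comap, hS, sup_le_iff, closure_le, zpowers_le]
    refine ⟨?_, ?_⟩
    · rintro _ ⟨k, rfl⟩
      fin_cases k
      · show T * A * T⁻¹ ∈ S
        rw [show T * A * T⁻¹ = B from Prod.ext sTI hti]; exact hB
      · show T * B * T⁻¹ ∈ S
        rw [show T * B * T⁻¹ = A * B from Prod.ext sTJ htj]; exact mul_mem hA hB
    · show T * Z * T⁻¹ ∈ S
      rw [show T * Z * T⁻¹ = Z from Prod.ext sTZ (by
        show t * (i * i) * t⁻¹ = i * i
        rw [← (hzc t).eq, mul_inv_cancel_right])]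
      exact mem_sup_right (mem_zpowers Z)
  set D := zpowers T ⊔ S with hD
  have hDc : Nat.card D ≤ 24 := by
    refine (Nat.le_mul_of_pos_right _ (Nat.card_pos (α := (zpowers T ⊓ S : Subgroup _)))).trans ?_
    rw [hD, Coprime.card_sup_mul_card_inf_of_le_normalizer hn, Nat.card_zpowers]
    exact Nat.mul_le_mul (orderOf_le_of_pow_eq_one (x := T) (n := 3) (by norm_num) (Prod.ext sT ht)) hSc
  let f1 := (MonoidHom.fst (Matrix.SpecialLinearGroup (Fin 2) (ZMod 3)) X).comp D.subtype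
  let f2 := (MonoidHom.snd (Matrix.SpecialLinearGroup (Fin 2) (ZMod 3)) X).comp D.subtype
  have hAD : A ∈ D := mem_sup_right hA
  have hBD : B ∈ D := mem_sup_right hB
  have hTD : T ∈ D := mem_sup_left (mem_zpowers T)
  have s1 : Function.Surjective f1 := fun M => by
    obtain ⟨a, b, c, rfl⟩ := (sl_all M).2
    exact ⟨(⟨A, hAD⟩ : D) ^ (a : ℕ) * (⟨B, hBD⟩ : D) ^ (b : ℕ) * (⟨T, hTD⟩ : D) ^ (c : ℕ),
      by simp [f1, A, B, T]⟩
  have s2 : Function.Surjective f2 := by
    rw [← MonoidHom.range_eq_top, eq_top_iff, ← hgen, closure_le]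
    rintro g (rfl | rfl | rfl)
    · exact ⟨⟨A, hAD⟩, rfl⟩
    · exact ⟨⟨B, hBD⟩, rfl⟩
    · exact ⟨⟨T, hTD⟩, rfl⟩
  have hSL : Nat.card (Matrix.SpecialLinearGroup (Fin 2) (ZMod 3)) = 24 := by
    rw [Nat.card_eq_fintype_card, sl_card]
  have e1 : Nat.card D = 24 := le_antisymm hDc (hSL ▸ Nat.card_le_card_of_surjective _ s1)
  have b1 := (Nat.bijective_iff_surjective_and_card f1).mpr ⟨s1, e1.trans hSL.symm⟩
  have b2 := (Nat.bijective_iff_surjective_and_card f2).mpr ⟨s2, e1.trans hX.symm⟩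
  exact ⟨(MulEquiv.ofBijective _ b2).symm.trans (MulEquiv.ofBijective _ b1)⟩

/-- A quaternion subgroup with an automizer element of order 3 gives an `SL(2,3)` section. -/
theorem section_of_q8 {G : Type*} [Group G] [Finite G] (ι : Q8 →* G) (hι : Function.Injective ι) (g : G)
    (φ : MulAut Q8) (hg : ∀ q, g * ι q * g⁻¹ = ι (φ q)) (hgo : (orderOf g).Coprime 2) (hφ3 : φ ^ 3 = 1)
    (u : Q8) (hu : u ^ 2 ≠ 1) (hvu : φ u ≠ u) (hvu' : φ u ≠ u * u * u) (hw : φ (φ u) = u * φ u) :
    ∃ (H K : Subgroup G) (_ : (K.subgroupOf H).Normal),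
      Nonempty ((H ⧸ K.subgroupOf H) ≃* Matrix.SpecialLinearGroup (Fin 2) (ZMod 3)) := by
  have hv2 : (φ u) ^ 2 ≠ 1 := fun e => hu (φ.injective (by rw [map_pow, e, map_one]))
  obtain ⟨hc, hvv, hvuv, hall⟩ := q8_commutator u (φ u) hu hv2 hvu hvu'
  obtain ⟨hc', -, -, -⟩ := q8_commutator (φ u) u hv2 hu (Ne.symm hvu) (q8_swap u (φ u) hu hv2 hvu hvu').1
  set v := φ u with hv
  have hpow : ∀ (k : ℕ) q, g ^ k * ι q * (g ^ k)⁻¹ = ι ((φ ^ k) q) := by
    intro k
    induction k with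
    | zero => intro q; simp
    | succ k ih =>
      intro q
      rw [pow_succ' φ, MulAut.mul_apply, ← hg, ← ih q, pow_succ']
      group
  have hfix : φ (u * u) = u * u := by rw [map_mul, ← hv, hvv]
  set H := ι.range ⊔ zpowers g with hH
  set K := zpowers (g ^ 3) with hK
  have hg3 : ∀ h ∈ H, Commute (g ^ 3) h := by
    have : H ≤ centralizer ({g ^ 3} : Set G) := by
      refine sup_le ?_ (zpowers_le.mpr (mem_centralizer_singleton_iff.mpr ((Commute.refl g).pow_right 3).eq))
      rintro _ ⟨q, rfl⟩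
      refine mem_centralizer_singleton_iff.mpr ?_
      have := hpow 3 q
      rw [hφ3, MulAut.one_apply, mul_inv_eq_iff_eq_mul] at this
      exact this.symm
    exact fun h hh => (mem_centralizer_singleton_iff.mp (this hh)).symm
  haveI hKn : (K.subgroupOf H).Normal := ⟨fun k hk h => by
    obtain ⟨m, hm⟩ := mem_zpowers_iff.mp (mem_subgroupOf.mp hk)
    rw [mem_subgroupOf, Subgroup.coe_mul, Subgroup.coe_mul, Subgroup.coe_inv, ← hm,
      ← ((hg3 h h.2).zpow_left m).eq, mul_inv_cancel_right]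
    exact zpow_mem (mem_zpowers _) m⟩
  refine ⟨H, K, hKn, ?_⟩
  -- the order of the section
  have hne1 : φ ≠ 1 := fun e => hvu (by rw [hv, e, MulAut.one_apply])
  have h3 : 3 ∣ orderOf g := by
    have h1 : φ ^ orderOf g = 1 := MulEquiv.ext fun q => hι (by
      rw [← hpow, pow_orderOf_eq_one]; simp)
    have h2 : orderOf φ = 3 := by
      haveI : Fact (Nat.Prime 3) := ⟨Nat.prime_three⟩
      exact orderOf_eq_prime hφ3 hne1
    exact h2 ▸ orderOf_dvd_of_pow_eq_one h1
  have hQcard : Nat.card ι.range = 8 := by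
    rw [← Nat.card_congr (MonoidHom.ofInjective hι).toEquiv, Nat.card_eq_fintype_card, QuaternionGroup.card]
  have hHcard : Nat.card H = 8 * orderOf g := by
    have hn : zpowers g ≤ normalizer (ι.range : Set G) := by
      refine zpowers_le.mpr (Subgroup.mem_normalizer_iff_map_conj_eq.mpr
        (eq_of_le_of_card_ge ?_ (by rw [card_map_of_injective (MulAut.conj g).injective])))
      rintro _ ⟨_, ⟨q, rfl⟩, rfl⟩
      exact ⟨φ q, (hg q).symm⟩
    rw [hH, sup_comm, Coprime.card_sup_of_coprime hn (by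
      rw [Nat.card_zpowers, hQcard, show (8 : ℕ) = 2 ^ 3 from rfl]
      exact hgo.pow_right 3), Nat.card_zpowers, hQcard, mul_comm]
  have hgH : g ∈ H := mem_sup_right (mem_zpowers g)
  have hKH : K ≤ H := zpowers_le.mpr (pow_mem hgH 3)
  have hX : Nat.card (H ⧸ K.subgroupOf H) = 24 := by
    have h := (K.subgroupOf H).card_mul_index
    rw [Nat.card_congr (subgroupOfEquivOfLe hKH).toEquiv, hK, Nat.card_zpowers,
      orderOf_pow' g three_ne_zero, Nat.gcd_eq_right h3, hHcard, index_eq_card] at h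
    obtain ⟨r, hr⟩ := h3
    have hr0 : 0 < r := by have := orderOf_pos g; omega
    rw [hr, Nat.mul_div_cancel_left _ (by norm_num : 0 < 3)] at h
    exact Nat.eq_of_mul_eq_mul_left hr0 (h.trans (by ring))
  let π := QuotientGroup.mk' (K.subgroupOf H)
  let ιH : Q8 →* H := ι.codRestrict H fun q => mem_sup_left ⟨q, rfl⟩
  let gH : H := ⟨g, hgH⟩
  have hconj : ∀ q, gH * ιH q * gH⁻¹ = ιH (φ q) := fun q => Subtype.ext (hg q)
  have hgen' : closure ({π (ιH u), π (ιH v), π gH} : Set (H ⧸ K.subgroupOf H)) = ⊤ := by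
    rw [eq_top_iff]
    set L := closure ({π (ιH u), π (ιH v), π gH} : Set (H ⧸ K.subgroupOf H))
    intro x _
    obtain ⟨⟨h, hh⟩, rfl⟩ := QuotientGroup.mk'_surjective _ x
    have hle : H ≤ (L.comap π).map H.subtype := by
      refine sup_le ?_ (zpowers_le.mpr ⟨gH, show π gH ∈ L from subset_closure (by simp), rfl⟩)
      rintro _ ⟨q, rfl⟩
      refine ⟨ιH q, show π (ιH q) ∈ L from ?_, rfl⟩
      have hmu : π (ιH u) ∈ L := subset_closure (by simp)
      have hmv : π (ιH v) ∈ L := subset_closure (by simp)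
      have one := one_mem L
      rcases hall q with e | e | e | e | e | e | e | e <;> simp only [e, map_one, map_mul] <;>
        first
          | exact one
          | (repeat' first | exact hmu | exact hmv | refine mul_mem ?_ ?_)
    obtain ⟨h', hh', e⟩ := hle hh
    exact Subtype.ext (a1 := h') (a2 := ⟨h, hh⟩) e ▸ hh'
  refine iso_SL23 hX (i := π (ιH u)) (j := π (ιH v)) (t := π gH) ?_ ?_ ?_ ?_ ?_ ?_ ?_ ?_ hgen'
  · rw [← map_mul, ← map_mul, ← map_pow, ← map_pow, pow_two, q8_four, map_one, map_one]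
  · intro x
    obtain ⟨⟨h, hh⟩, rfl⟩ := QuotientGroup.mk'_surjective _ x
    rw [← map_mul, ← map_mul]
    refine Commute.map ?_ π
    have hle : H ≤ centralizer ({ι (u * u)} : Set G) := by
      refine sup_le ?_ (zpowers_le.mpr (mem_centralizer_singleton_iff.mpr ?_))
      · rintro _ ⟨q, rfl⟩
        rw [mem_centralizer_singleton_iff, ← map_mul, ← map_mul, q8_central u q hu]
      · have := hg (u * u)
        rw [hfix, mul_inv_eq_iff_eq_mul] at this
        exact this
    exact Subtype.ext (mem_centralizer_singleton_iff.mp (hle hh)).symm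
  · simp only [← map_mul π, ← map_mul ιH, hvv]
  · simp only [← map_mul, ← map_inv, hc]
  · simp only [← map_mul, ← map_inv, hc', hvv]
  · rw [← map_pow, QuotientGroup.mk'_apply, QuotientGroup.eq_one_iff, mem_subgroupOf]
    exact mem_zpowers _
  · rw [← map_inv, ← map_mul, ← map_mul, hconj, hv]
  · rw [← map_inv, ← map_mul, ← map_mul, hconj, hw, map_mul, map_mul]

/-- S0106. -/
theorem complement_or_section {G : Type*} [Group G] [Finite G] (T : Sylow 2 G) (n : ℕ)
    (hT : Nonempty ((T : Subgroup G) ≃* QuaternionGroup (2 ^ n))) :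
    Cfsg.HasNormalPComplement 2 G ∨ ∃ (H K : Subgroup G) (_ : (K.subgroupOf H).Normal),
      Nonempty ((H ⧸ K.subgroupOf H) ≃* Matrix.SpecialLinearGroup (Fin 2) (ZMod 3)) := by
  haveI : Fact (Nat.Prime 2) := ⟨Nat.prime_two⟩
  refine or_iff_not_imp_right.mpr fun hno => Transfer.frobenius_criterion
    (Transfer.autPGroup_of_sylow T fun Q hQT g hgN hgo => ?_)
  by_contra hgC
  obtain ⟨eT⟩ := hT
  have hQ : IsPGroup 2 Q := T.2.to_le hQT
  let χ : normalizer (Q : Set G) →* MulAut Q := Q.normalizerMonoidHom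
  set φ₀ := χ ⟨g, hgN⟩ with hφ₀
  have hφg : ∀ x : Q, ((φ₀ x : Q) : G) = g * x * g⁻¹ := fun x => rfl
  have hne : φ₀ ≠ 1 := fun e => hgC (mem_centralizer_iff.mpr fun x hx => by
    have h := congrArg Subtype.val (DFunLike.congr_fun e (⟨x, hx⟩ : Q))
    rw [hφg] at h
    exact (mul_inv_eq_iff_eq_mul.mp h).symm)
  have hφo : (orderOf φ₀).Coprime 2 := by
    refine hgo.coprime_dvd_left ((orderOf_map_dvd χ _).trans ?_)
    rw [orderOf_mk]
  have huniq : ∀ H K : Subgroup Q, Nat.card H = 2 → Nat.card K = 2 → H = K := by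
    let j : Q →* QuaternionGroup (2 ^ n) := eT.toMonoidHom.comp (inclusion hQT)
    have hj : Function.Injective j := eT.injective.comp (inclusion_injective hQT)
    haveI : NeZero (2 ^ n) := ⟨pow_ne_zero _ two_ne_zero⟩
    have hinv : ∀ H : Subgroup Q, Nat.card H = 2 → ∃ h ∈ H, j h = QuaternionGroup.a ((2 ^ n : ℕ) : ZMod _) ∧
        zpowers h = H := by
      intro H hH
      obtain ⟨⟨h, hh⟩, ho⟩ := exists_prime_orderOf_dvd_card' (G := H) 2 hH.symm.dvd
      rw [orderOf_mk] at ho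
      have hsq : h ^ 2 = 1 := orderOf_dvd_iff_pow_eq_one.mp (dvd_of_eq ho)
      refine ⟨h, hh, (sq_eq_one (j h) (by rw [← map_pow, hsq, map_one])).resolve_left
        (fun e => ?_), eq_of_le_of_card_ge (zpowers_le.mpr hh) (by rw [Nat.card_zpowers, ho, hH])⟩
      rw [hj (e.trans (map_one j).symm), orderOf_one] at ho
      norm_num at ho
    intro H K hH hK
    obtain ⟨h, -, he, hH'⟩ := hinv H hH
    obtain ⟨k, -, ke, hK'⟩ := hinv K hK
    rw [← hH', ← hK', hj (he.trans ke.symm)]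
  rcases UniqueInvolution.isCyclic_or_quaternion hQ huniq with hcyc | ⟨-, m, hm, ⟨e⟩⟩
  · exact hne (aut_cyclic_trivial hQ φ₀ hφo)
  let φ : MulAut (QuaternionGroup (2 ^ m)) := MulAut.congr e φ₀
  have hφo' : (orderOf φ).Coprime 2 := by
    rwa [show orderOf φ = orderOf φ₀ from MulEquiv.orderOf_eq (MulAut.congr e) φ₀]
  have hφne : φ ≠ 1 := fun h => hne ((MulAut.congr e).injective (h.trans (map_one _).symm))
  rcases Nat.lt_or_ge m 2 with hm2 | hm2
  swap
  · have h4 : 4 ≤ 2 ^ m := by simpa using Nat.pow_le_pow_right two_pos hm2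
    haveI : NeZero (2 ^ m) := ⟨pow_ne_zero _ two_ne_zero⟩
    refine hφne (aut_big_trivial (by omega) (IsPGroup.of_card (n := m + 2) ?_) φ hφo')
    rw [Nat.card_eq_fintype_card, QuaternionGroup.card, pow_add]; ring
  obtain rfl : m = 1 := by omega
  obtain ⟨h3, u, hu, hvu, hvu', hw⟩ := aut_q8 φ hφo' hφne
  let ι : Q8 →* G := Q.subtype.comp e.symm.toMonoidHom
  have hι : Function.Injective ι := Q.subtype_injective.comp e.symm.injective
  have hconj : ∀ q, g * ι q * g⁻¹ = ι (φ q) := fun q => by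
    show g * (e.symm q : Q) * g⁻¹ = ((e.symm (e (φ₀ (e.symm q))) : Q) : G)
    rw [e.symm_apply_apply, hφg]
  refine hno ?_
  rcases hw with hw | hw
  · exact section_of_q8 ι hι g φ hconj hgo h3 u hu hvu hvu' hw
  · -- pass to the inverse
    have hinv : φ⁻¹ = φ * φ := inv_eq_of_mul_eq_one_left (by rw [← h3]; simp [pow_succ])
    have hv2 : (φ u) ^ 2 ≠ 1 := fun e => hu (φ.injective (by rw [map_pow, e, map_one]))
    obtain ⟨-, -, -, -, -, s1, s2, s3, s4⟩ := q8_swap u (φ u) hu hv2 hvu hvu'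
    refine section_of_q8 ι hι g⁻¹ φ⁻¹ (fun q => ?_) (by rwa [orderOf_inv]) (by rw [inv_pow, h3, inv_one])
      u hu ?_ ?_ ?_
    · have := hconj (φ⁻¹ q)
      rw [MulAut.apply_inv_self] at this
      rw [← this]; group
    · rw [hinv, MulAut.mul_apply, hw]
      exact s1
    · rw [hinv, MulAut.mul_apply, hw]
      exact s2
    · have e3 : φ⁻¹ (φ⁻¹ u) = φ u := by
        rw [hinv]
        simp only [MulAut.mul_apply]
        have := DFunLike.congr_fun h3 (φ u)
        simp only [pow_succ, pow_zero, one_mul, MulAut.mul_apply, MulAut.one_apply] at this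
        exact this
      rw [e3, hinv, MulAut.mul_apply, hw]
      exact s4

end Cfsg.Agent.Lib.Thompson.Quat
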