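import Cfsg.Agent.Lib.Thompson.MaxClass

/-!
Structure of 2-groups whose derived subgroup has index 4 (maximal class).
-/

set_option autoImplicit false
open Subgroup
open scoped commutatorElement

namespace Cfsg.Agent.Lib.Thompson

variable {G : Type*} [Group G]

/-- Dihedral, quaternion and semidihedral presentation. -/
theorem maxClassTwo_structure [Finite G] {m : ℕ} (hm : 2 ≤ m) (hG : Nat.card G = 2 ^ (m + 1))
    (h4 : (commutator G).index = 4) :
    ∃ (a b : G) (r : ℤ), orderOf a = 2 ^ m ∧ b ∉ zpowers a ∧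
      b ^ 2 ∈ zpowers (a ^ 2 ^ (m - 1)) ∧ b * a * b⁻¹ = a ^ r ∧ (2 : ℤ) ^ (m - 1) ∣ r + 1 ∧
      (zpowers a).index = 2 ∧ 4 ∣ r + 1 := by
  obtain ⟨C, hC, hCi⟩ := exists_cyclic_index_two (by omega : 3 ≤ m + 1) hG h4
  have hna : ∃ x y : G, x * y ≠ y * x := by
    by_contra! h
    have : commutator G = ⊥ := by
      rw [_root_.commutator_def, eq_bot_iff, commutator_le]
      exact fun x _ y _ => mem_bot.mpr (commutatorElement_eq_one_iff_commute.mpr (h x y))
    rw [this, index_bot, hG] at h4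
    have : 2 ^ 3 ≤ 2 ^ (m + 1) := Nat.pow_le_pow_right (by norm_num) (by omega)
    omega
  obtain ⟨-, a, b, ha, hb, hcases⟩ := cyclic_index_two_cases hG hC hCi hna
  have hidx : (zpowers a).index = 2 := by
    have := card_mul_index (zpowers a)
    rw [Nat.card_zpowers, ha, hG, pow_succ] at this
    exact Nat.eq_of_mul_eq_mul_left (pow_pos (by norm_num) _) this
  have hpow : ∀ j, j ≤ m - 1 → (2 : ℤ) ^ j ∣ 2 ^ (m - 1) := fun j hj => pow_dvd_pow 2 hj
  rcases hcases with ⟨h2, hc⟩ | ⟨h2, hc⟩ | ⟨h3, h2, hc⟩ | ⟨h3, h2, hc⟩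
  · exact ⟨a, b, -1, ha, hb, by rw [h2]; exact one_mem _, by rw [zpow_neg_one, hc], by simp, hidx, by simp⟩
  · exact ⟨a, b, -1, ha, hb, by rw [h2]; exact mem_zpowers _, by rw [zpow_neg_one, hc], by simp, hidx, by simp⟩
  · exfalso
    have hN : (zpowers (a ^ 2 ^ (m - 1))).Normal := by
      refine normal_of_le_center (zpowers_le.mpr (mem_center_iff.mpr fun g => ?_))
      have hle : zpowers a ≤ centralizer ({a ^ 2 ^ (m - 1)} : Set G) :=
        zpowers_le.mpr (mem_centralizer_singleton_iff.mpr ((Commute.refl a).pow_right _).eq)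
      have hbm : b ∈ centralizer ({a ^ 2 ^ (m - 1)} : Set G) := by
        rw [mem_centralizer_singleton_iff, ← mul_inv_eq_iff_eq_mul, ← conj_pow, hc, ← pow_mul]
        rw [add_mul, one_mul, pow_add, ← pow_add 2, pow_eq_one_of_dvd' (k := 2 ^ (m - 1 + (m - 1))) ha
          (pow_dvd_pow 2 (by omega)), mul_one]
      refine mem_centralizer_singleton_iff.mp ?_
      rcases em (g ∈ zpowers a) with hg | hg
      · exact hle hg
      · have : b⁻¹ * g ∈ zpowers a := (mul_mem_iff_of_index_two hidx).mpr (by simp [hb, hg])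
        simpa using mul_mem hbm (hle this)
    have hD : commutator G ≤ zpowers (a ^ 2 ^ (m - 1)) := by
      refine (Normal.quotient_commutative_iff_commutator_le (N := zpowers (a ^ 2 ^ (m - 1)))).mp ?_
      let π := QuotientGroup.mk' (zpowers (a ^ 2 ^ (m - 1)))
      have hab : Commute (π b) (π a) := by
        rw [← commutatorElement_eq_one_iff_commute, ← map_commutatorElement]
        refine (QuotientGroup.eq_one_iff _).mpr ?_
        rw [commutatorElement_def, hc, add_comm, pow_add, pow_one, mul_inv_cancel_right]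
        exact mem_zpowers _
      refine ⟨⟨fun x y => ?_⟩⟩
      obtain ⟨x, rfl⟩ := QuotientGroup.mk'_surjective _ x
      obtain ⟨y, rfl⟩ := QuotientGroup.mk'_surjective _ y
      have hg : ∀ g, ∃ (i : ℤ) (δ : ℕ), π g = π b ^ δ * π a ^ i := fun g => by
        rcases em (g ∈ zpowers a) with hg | hg
        · obtain ⟨i, rfl⟩ := hg
          exact ⟨i, 0, by simp⟩
        · obtain ⟨i, hi⟩ : b⁻¹ * g ∈ zpowers a :=
            (mul_mem_iff_of_index_two hidx).mpr (by simp [hb, hg])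
          exact ⟨i, 1, by
            rw [pow_one, ← map_zpow, ← map_mul, show a ^ i = b⁻¹ * g from hi, mul_inv_cancel_left]⟩
      obtain ⟨i, δ, hx⟩ := hg x
      obtain ⟨j, ε, hy⟩ := hg y
      show π x * π y = π y * π x
      rw [hx, hy]
      exact ((((Commute.refl _).pow_right ε).mul_right (hab.zpow_right j)).pow_left δ).mul_left
        (((hab.symm.pow_right ε).mul_right ((Commute.refl _).zpow_right j)).zpow_left i) |>.eq
    have h5 := card_mul_index (commutator G)
    rw [h4, hG] at h5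
    have h6 : Nat.card (commutator G) ≤ 2 := (card_le_of_le hD).trans (by
      rw [Nat.card_zpowers]
      exact orderOf_le_of_pow_eq_one (by norm_num) (by
        rw [← pow_mul, ← pow_succ, show m - 1 + 1 = m by omega, ← ha, pow_orderOf_eq_one]))
    have : 2 ^ 4 ≤ 2 ^ (m + 1) := Nat.pow_le_pow_right (by norm_num) (by omega)
    omega
  · refine ⟨a, b, (2 ^ (m - 1) - 1 : ℕ), ha, hb, by rw [h2]; exact one_mem _,
      by rw [zpow_natCast, hc], ?_, hidx, ?_⟩
    · rw [Nat.cast_sub Nat.one_le_two_pow]; push_cast; simp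
    · rw [Nat.cast_sub Nat.one_le_two_pow]; push_cast
      rw [sub_add_cancel]
      exact (show (2 : ℤ) ^ 2 = 4 by norm_num) ▸ hpow 2 (by omega)
where
  pow_eq_one_of_dvd' {H : Type _} [Group H] {a : H} {N k : ℕ} (ha : orderOf a = N) (h : N ∣ k) :
      a ^ k = 1 := orderOf_dvd_iff_pow_eq_one.mp (ha ▸ h)

theorem pow_mem_lcs {m : ℕ} {a b : G} {r : ℤ}
    (ha : orderOf a = 2 ^ m) (hr : b * a * b⁻¹ = a ^ r) (h4 : 4 ∣ r + 1) (k : ℕ) :
    a ^ 2 ^ k ∈ (⊤ : Subgroup G).lowerCentralSeries k := by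
  induction k with
  | zero => simp
  | succ k ih =>
    obtain ⟨t, ht⟩ := h4
    have h1 : ⁅a ^ 2 ^ k, b⁆ ∈ (⊤ : Subgroup G).lowerCentralSeries (k + 1) :=
      commutator_mem_commutator ih (mem_top b)
    have h2 : ⁅a ^ 2 ^ k, b⁆ = (a ^ 2 ^ (k + 1)) ^ (1 - 2 * t) := by
      have h0 : ⁅a ^ 2 ^ k, b⁆ = a ^ 2 ^ k * (b * (a ^ 2 ^ k)⁻¹ * b⁻¹) := by
        rw [commutatorElement_def]; group
      rw [h0, ← zpow_natCast, ← zpow_neg, conj_zpow_of_eq hr, ← zpow_add, ← zpow_natCast a, ← zpow_mul]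
      congr 1
      push_cast
      rw [pow_succ, show r = 4 * t - 1 by linarith]
      ring
    rw [h2] at h1
    have hodd : IsCoprime (1 - 2 * t) ((orderOf a : ℕ) : ℤ) := by
      rw [ha]
      push_cast
      exact IsCoprime.pow_right ⟨1, t, by ring⟩
    obtain ⟨u, v, huv⟩ := hodd
    have hw : (a ^ 2 ^ (k + 1)) ^ ((orderOf a : ℕ) : ℤ) = 1 := by
      rw [zpow_natCast, ← pow_mul, mul_comm, pow_mul, pow_orderOf_eq_one, one_pow]
    have h3 : a ^ 2 ^ (k + 1) = ((a ^ 2 ^ (k + 1)) ^ (1 - 2 * t)) ^ u *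
        ((a ^ 2 ^ (k + 1)) ^ ((orderOf a : ℕ) : ℤ)) ^ v := by
      rw [← zpow_mul, ← zpow_mul, ← zpow_add, mul_comm _ u, mul_comm _ v, huv, zpow_one]
    rw [h3, hw, one_zpow, mul_one]
    exact zpow_mem h1 u

end Cfsg.Agent.Lib.Thompson
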