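import Cfsg.Prelude.Def_Local
import Cfsg.Agent.Lib.Thompson.ZJQuotient
import Cfsg.Agent.Lib.Thompson.NPCFunctor
import Cfsg.Agent.Lib.Components.Local
import Cfsg.Agent.Lib.OddLocal.PLengthOne
import Cfsg.Agent.Lib.LocalFusion.PSolvable
import Cfsg.Agent.Lib.PLength.Basic

/-!
p-constrained groups.
-/

set_option autoImplicit false
open Subgroup
open scoped commutatorElement

namespace Cfsg.Agent.Lib.Thompson

open Cfsg

variable {G : Type*} [Group G] [Finite G] {p : ℕ} [hp : Fact p.Prime]

/-- `G` is p-constrained exactly when `O_p` of `G / O_{p'}(G)` contains its centralizer. -/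
theorem isPConstrained_iff :
    IsPConstrained p G ↔
      centralizer (pCore p (G ⧸ pPrimeCore p G) : Set (G ⧸ pPrimeCore p G)) ≤ pCore p (G ⧸ pPrimeCore p G) := by
  refine ⟨centralizer_pCore_quotient_le, fun h P x hx => ?_⟩
  let π := QuotientGroup.mk' (pPrimeCore p G)
  let S : Sylow p G := Classical.arbitrary _
  have : (pPrimePCore p G).Normal := by unfold pPrimePCore; infer_instance
  have himg : ((P : Subgroup ↥(pPrimePCore p G)).map (pPrimePCore p G).subtype).map π =
      pCore p (G ⧸ pPrimeCore p G) := by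
    refine le_antisymm ((map_mono (map_subtype_le _)).trans pPrimePCore_map.le) fun y hy => ?_
    let φ : ↥(pPrimePCore p G) →* ↥(pCore p (G ⧸ pPrimeCore p G)) :=
      π.subgroupComap (pCore p (G ⧸ pPrimeCore p G))
    have hφ : Function.Surjective φ :=
      π.subgroupComap_surjective_of_surjective _ (QuotientGroup.mk'_surjective _)
    have h1 : ((P.mapSurjective hφ : Sylow p ↥(pCore p (G ⧸ pPrimeCore p G))) :
        Subgroup ↥(pCore p (G ⧸ pPrimeCore p G))) = ⊤ := by
      refine ((P.mapSurjective hφ).3 ?_ le_top).symm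
      exact (Hall.isPGroup_pCore p).of_equiv topEquiv.symm
    have h2 : (⟨y, hy⟩ : ↥(pCore p (G ⧸ pPrimeCore p G))) ∈ (P : Subgroup ↥(pPrimePCore p G)).map φ := by
      rw [← Sylow.coe_mapSurjective hφ P, h1]; exact mem_top _
    obtain ⟨s, hs, hsy⟩ := h2
    exact ⟨s, ⟨s, hs, rfl⟩, congrArg Subtype.val hsy⟩
  refine h (mem_centralizer_iff.mpr ?_)
  rw [← himg]
  rintro _ ⟨z, hz, rfl⟩
  show π z * π x = π x * π z
  rw [← map_mul, ← map_mul, mem_centralizer_iff.mp hx z hz]

omit hp in
theorem charp_equiv {G' : Type*} [Group G'] (e : G ≃* G')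
    (h : centralizer (pCore p G : Set G) ≤ pCore p G) :
    centralizer (pCore p G' : Set G') ≤ pCore p G' := by
  rw [← Hall.map_pCore_equiv p e]
  intro x hx
  refine ⟨e.symm x, h (mem_centralizer_iff.mpr fun y hy => e.injective ?_), e.apply_symm_apply x⟩
  rw [map_mul, map_mul, e.apply_symm_apply]
  exact mem_centralizer_iff.mp hx _ (mem_map_of_mem e.toMonoidHom hy)

omit hp in
theorem charp_equiv_iff {G' : Type*} [Group G'] [Finite G'] (e : G ≃* G') :
    centralizer (pCore p G : Set G) ≤ pCore p G ↔ centralizer (pCore p G' : Set G') ≤ pCore p G' :=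
  ⟨charp_equiv e, charp_equiv e.symm⟩

/-- With trivial `O_{p'}`, p-constraint means `C(O_p) ≤ O_p`. -/
theorem isPConstrained_iff_of_core_eq_bot (h : pPrimeCore p G = ⊥) :
    IsPConstrained p G ↔ centralizer (pCore p G : Set G) ≤ pCore p G := by
  rw [isPConstrained_iff]
  exact charp_equiv_iff ((QuotientGroup.quotientMulEquivOfEq h).trans QuotientGroup.quotientBot)

theorem isPConstrained_iff_quotient :
    IsPConstrained p G ↔ IsPConstrained p (G ⧸ pPrimeCore p G) := by
  rw [isPConstrained_iff_of_core_eq_bot (OddLocal.pPrimeCore_quotient_eq_bot p), isPConstrained_iff]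

/-- A group with a surjection with kernel prime to p onto a group with `C(O_p) ≤ O_p`. -/
theorem constrained_of_surjective {Y : Type*} [Group Y] [Finite Y] {f : G →* Y} (hf : Function.Surjective f)
    (hk : (Nat.card f.ker).Coprime p) (hY : centralizer (pCore p Y : Set Y) ≤ pCore p Y) :
    pPrimeCore p G = f.ker ∧ IsPConstrained p G := by
  have he : pPrimeCore p G = f.ker := by
    refine le_antisymm ?_ (Hall.le_pPrimeCore hk)
    have : ((pPrimeCore p G).map f).Normal := (inferInstance : (pPrimeCore p G).Normal).map f hf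
    have h1 : (pPrimeCore p G).map f ≤ pPrimeCore p Y :=
      Hall.le_pPrimeCore ((Hall.coprime_card_pPrimeCore p).coprime_dvd_left (card_map_dvd _ _))
    rw [Components.charp_pPrimeCore hY, le_bot_iff, Subgroup.map_eq_bot_iff] at h1
    exact h1
  refine ⟨he, isPConstrained_iff.mpr ?_⟩
  exact charp_equiv ((QuotientGroup.quotientMulEquivOfEq he).trans
    (QuotientGroup.quotientKerEquivOfSurjective f hf)).symm hY

/-- `C(O_p) ≤ O_p` passes to normal subgroups. -/
theorem charp_normal (X : Subgroup G) [X.Normal] (h : centralizer (pCore p G : Set G) ≤ pCore p G) :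
    centralizer (pCore p ↥X : Set ↥X) ≤ pCore p ↥X := by
  refine Components.charp_of_no_pprime fun x hx hcop => Subtype.ext ?_
  have hle : (pCore p G).subgroupOf X ≤ pCore p ↥X := Hall.le_pCore ((Hall.isPGroup_pCore p).comap_subtype)
  have hx' : (x : G) ∈ centralizer ((pCore p G ⊓ X : Subgroup G) : Set G) := mem_centralizer_iff.mpr fun y hy =>
    congrArg Subtype.val (mem_centralizer_iff.mp hx ⟨y, hy.2⟩ (hle (mem_subgroupOf.mpr hy.1)))
  have hcop' : (orderOf (x : G)).Coprime p := by rwa [orderOf_coe]
  have hC := mem_centralizer_of_factor (Hall.isPGroup_pCore p) (inf_le_left : pCore p G ⊓ X ≤ pCore p G)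
    hcop' hx' fun y hy => ⟨(pCore p G).mul_mem ((pCore p G).inv_mem hy) ((inferInstance : (pCore p G).Normal).conj_mem y hy x), by
      rw [← mul_assoc, ← mul_assoc]
      exact X.mul_mem (by simpa using (inferInstance : X.Normal).conj_mem _ x.2 y⁻¹) (X.inv_mem x.2)⟩
  have h1 := Lib.Transfer.eq_one_of_isPGroup_of_coprime (g := (⟨_, h hC⟩ : pCore p G)) (Hall.isPGroup_pCore p)
    (by rwa [orderOf_mk])
  simpa using congrArg Subtype.val h1

/-- Normalizers of p-subgroups in p-constrained groups. -/
theorem constrained_normalizer (hG : IsPConstrained p G) {P : Subgroup G} (hP : IsPGroup p P) :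
    (pPrimeCore p ↥(normalizer (P : Set G))).map (normalizer (P : Set G)).subtype =
        pPrimeCore p G ⊓ normalizer (P : Set G) ∧
      IsPConstrained p ↥(normalizer (P : Set G)) := by
  let K := pPrimeCore p G
  let π := QuotientGroup.mk' K
  have hK := Components.pPrimeCore_coprime (G := G) p
  have hNimg := Components.map_normalizer_pGroup (O := K) hP hK
  let f : ↥(normalizer (P : Set G)) →* ↥(normalizer ((P.map π : Subgroup (G ⧸ K)) : Set (G ⧸ K))) :=
    (MulEquiv.subgroupCongr hNimg).toMonoidHom.comp (π.subgroupMap _)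
  have hf : Function.Surjective f :=
    (MulEquiv.subgroupCongr hNimg).surjective.comp (π.subgroupMap_surjective _)
  have hker : f.ker = K.subgroupOf (normalizer (P : Set G)) := by
    ext x
    rw [MonoidHom.mem_ker, mem_subgroupOf, ← QuotientGroup.eq_one_iff]
    exact ⟨fun e => congrArg Subtype.val e, fun e => Subtype.ext e⟩
  have hkc : (Nat.card f.ker).Coprime p := by
    refine hK.coprime_dvd_left ?_
    rw [hker, ← card_map_of_injective (K := K.subgroupOf (normalizer (P : Set G))) (subtype_injective _)]
    exact card_dvd_of_le (map_comap_le _ _)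
  obtain ⟨h1, h2⟩ := constrained_of_surjective hf hkc
    (Components.charp_normalizer (centralizer_pCore_quotient_le hG) (hP.map π))
  refine ⟨?_, h2⟩
  rw [h1, hker, subgroupOf_map_subtype]

theorem constrained_centralizer (hG : IsPConstrained p G) {P : Subgroup G} (hP : IsPGroup p P) :
    IsPConstrained p ↥(centralizer (P : Set G)) := by
  let K := pPrimeCore p G
  let π := QuotientGroup.mk' K
  have hK := Components.pPrimeCore_coprime (G := G) p
  have hCimg := Components.map_centralizer_pGroup (O := K) hP hK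
  set Cb := centralizer ((P.map π : Subgroup (G ⧸ K)) : Set (G ⧸ K))
  set Nb := normalizer ((P.map π : Subgroup (G ⧸ K)) : Set (G ⧸ K))
  let f : ↥(centralizer (P : Set G)) →* ↥Cb :=
    (MulEquiv.subgroupCongr hCimg).toMonoidHom.comp (π.subgroupMap _)
  have hf : Function.Surjective f :=
    (MulEquiv.subgroupCongr hCimg).surjective.comp (π.subgroupMap_surjective _)
  have hker : f.ker = K.subgroupOf (centralizer (P : Set G)) := by
    ext x
    rw [MonoidHom.mem_ker, mem_subgroupOf, ← QuotientGroup.eq_one_iff]
    exact ⟨fun e => congrArg Subtype.val e, fun e => Subtype.ext e⟩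
  have hkc : (Nat.card f.ker).Coprime p := by
    refine hK.coprime_dvd_left ?_
    rw [hker, ← card_map_of_injective (K := K.subgroupOf (centralizer (P : Set G))) (subtype_injective _)]
    exact card_dvd_of_le (map_comap_le _ _)
  have hle : Cb ≤ Nb := centralizer_le_normalizer _
  have hn : (Cb.subgroupOf Nb).Normal :=
    normal_subgroupOf_of_le_normalizer (fun n hn => mem_normalizer_of_forall_conj fun c hc =>
      mem_centralizer_iff.mpr fun q hq => by
        have h' := mem_centralizer_iff.mp hc _ ((mem_normalizer_iff''.mp hn q).mp hq)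
        calc q * (n * c * n⁻¹) = n * (n⁻¹ * q * n * c) * n⁻¹ := by group
          _ = n * (c * (n⁻¹ * q * n)) * n⁻¹ := by rw [h']
          _ = _ := by group)
  have hYN := Components.charp_normalizer (centralizer_pCore_quotient_le hG) (hP.map π)
  exact (constrained_of_surjective hf hkc
    (charp_equiv (subgroupOfEquivOfLe hle) (charp_normal (Cb.subgroupOf Nb) hYN))).2

/-- p-constraint from p-solvability of the centralizer of a Sylow subgroup of `O_{p',p}`. -/
theorem constrained_of_centralizer_isPSolvable (P : Sylow p ↥(pPrimePCore p G))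
    (hsol : IsPSolvable p ↥(centralizer (((P : Subgroup ↥(pPrimePCore p G)).map (pPrimePCore p G).subtype : Subgroup G) : Set G))) :
    IsPConstrained p G := by
  let K := pPrimeCore p G
  let π := QuotientGroup.mk' K
  set Q := (P : Subgroup ↥(pPrimePCore p G)).map (pPrimePCore p G).subtype
  have hQp : IsPGroup p Q := P.2.map _
  have hK := Components.pPrimeCore_coprime (G := G) p
  have hCimg := Components.map_centralizer_pGroup (O := K) hQp hK
  have hQimg : Q.map π ≤ pCore p (G ⧸ K) := (map_mono (map_subtype_le _)).trans pPrimePCore_map.le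
  have hQeq : Q.map π = pCore p (G ⧸ K) := by
    refine le_antisymm hQimg fun y hy => ?_
    let φ : ↥(pPrimePCore p G) →* ↥(pCore p (G ⧸ K)) := π.subgroupComap (pCore p (G ⧸ K))
    have hφ : Function.Surjective φ :=
      π.subgroupComap_surjective_of_surjective _ (QuotientGroup.mk'_surjective _)
    have h1 : ((P.mapSurjective hφ : Sylow p ↥(pCore p (G ⧸ K))) : Subgroup ↥(pCore p (G ⧸ K))) = ⊤ := by
      refine ((P.mapSurjective hφ).3 ?_ le_top).symm
      exact (Hall.isPGroup_pCore p).of_equiv topEquiv.symm
    have h2 : (⟨y, hy⟩ : ↥(pCore p (G ⧸ K))) ∈ (P : Subgroup ↥(pPrimePCore p G)).map φ := by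
      rw [← Sylow.coe_mapSurjective hφ P, h1]; exact mem_top _
    obtain ⟨s, hs, hsy⟩ := h2
    exact ⟨s, ⟨s, hs, rfl⟩, congrArg Subtype.val hsy⟩
  rw [hQeq] at hCimg
  set X := centralizer (pCore p (G ⧸ K) : Set (G ⧸ K))
  have hXn : X.Normal := normal_centralizer
  have hXs : IsPSolvable p ↥X := PLength.isPSolvable_map
    (f := (MulEquiv.subgroupCongr hCimg).toMonoidHom.comp (π.subgroupMap _))
    ((MulEquiv.subgroupCongr hCimg).surjective.comp (π.subgroupMap_surjective _)) hsol
  have hXc : pPrimeCore p ↥X = ⊥ := by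
    have h0 : ((pPrimeCore p ↥X).map X.subtype) ≤ pPrimeCore p (G ⧸ K) :=
      Hall.le_pPrimeCore (by
        rw [card_map_of_injective X.subtype_injective]; exact Hall.coprime_card_pPrimeCore p)
    rw [OddLocal.pPrimeCore_quotient_eq_bot p, le_bot_iff,
      Subgroup.map_eq_bot_iff_of_injective _ X.subtype_injective] at h0
    exact h0
  have h1 := LocalFusion.centralizer_pCore_le_of_isPSolvable hXs hXc
  have hXO : (pCore p ↥X).map X.subtype ≤ pCore p (G ⧸ K) :=
    Hall.le_pCore ((Hall.isPGroup_pCore p).map _)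
  refine isPConstrained_iff.mpr fun x hx => hXO ?_
  have hx' : (⟨x, hx⟩ : ↥X) ∈ centralizer (pCore p ↥X : Set ↥X) := mem_centralizer_iff.mpr fun y hy =>
    Subtype.ext (mem_centralizer_iff.mp hx y (hXO (mem_map_of_mem X.subtype hy)))
  exact mem_map_of_mem X.subtype (h1 hx')

/-- Odd terms of the upper p-series have quotient with trivial `O_{p'}`. -/
theorem pPrimeCore_quotient_upper (k : ℕ) :
    pPrimeCore p (G ⧸ (upperPSeries p G (2 * k + 1)).1) = ⊥ := by
  have key : ∀ (U W : Subgroup G) [U.Normal] [W.Normal],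
      W = (pPrimeCore p (G ⧸ U)).comap (QuotientGroup.mk' U) → pPrimeCore p (G ⧸ W) = ⊥ := by
    rintro U W _ _ rfl
    set W := (pPrimeCore p (G ⧸ U)).comap (QuotientGroup.mk' U)
    set M := (pPrimeCore p (G ⧸ W)).comap (QuotientGroup.mk' W)
    have hUW : U ≤ W := fun x hx => by
      show QuotientGroup.mk' U x ∈ pPrimeCore p (G ⧸ U)
      rw [show QuotientGroup.mk' U x = 1 from (QuotientGroup.eq_one_iff x).2 hx]
      exact one_mem _
    have hWM : W ≤ M := fun x hx => by
      show QuotientGroup.mk' W x ∈ pPrimeCore p (G ⧸ W)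
      rw [show QuotientGroup.mk' W x = 1 from (QuotientGroup.eq_one_iff x).2 hx]
      exact one_mem _
    have hM : M ≤ W := by
      refine map_le_iff_le_comap.mp ?_
      have : (M.map (QuotientGroup.mk' U)).Normal :=
        (inferInstance : M.Normal).map _ (QuotientGroup.mk'_surjective U)
      refine Hall.le_pPrimeCore ?_
      have e : Nat.card (M.map (QuotientGroup.mk' U)) =
          Nat.card (W.map (QuotientGroup.mk' U)) * W.relIndex M := by
        have h1 := Lib.Coprime.card_map_mk' U M
        have h2 := Lib.Coprime.card_map_mk' U W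
        rw [inf_eq_right.mpr (hUW.trans hWM)] at h1
        rw [inf_eq_right.mpr hUW] at h2
        have h3 : Nat.card W * W.relIndex M = Nat.card M := by
          rw [relIndex, ← Lib.Coprime.card_subgroupOf hWM]
          exact card_mul_index _
        refine Nat.eq_of_mul_eq_mul_right (Nat.card_pos (α := U)) ?_
        rw [h1, mul_right_comm, h2, h3]
      rw [e]
      refine Nat.Coprime.mul_left ((Hall.coprime_card_pPrimeCore p).coprime_dvd_left
        (card_dvd_of_le (map_comap_le _ _))) ((Hall.coprime_card_pPrimeCore (G := G ⧸ W) p).coprime_dvd_left ?_)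
      have h1 := Lib.Coprime.card_map_mk' W M
      rw [inf_eq_right.mpr hWM] at h1
      rw [map_comap_eq_self_of_surjective (QuotientGroup.mk'_surjective W)] at h1
      have h3 : Nat.card W * W.relIndex M = Nat.card M := by
        rw [relIndex, ← Lib.Coprime.card_subgroupOf hWM]
        exact card_mul_index _
      rw [← h1, mul_comm] at h3
      exact dvd_of_eq (Nat.eq_of_mul_eq_mul_right Nat.card_pos h3)
    rw [eq_bot_iff, ← map_comap_eq_self_of_surjective (QuotientGroup.mk'_surjective W) (pPrimeCore p (G ⧸ W))]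
    exact (map_mono hM).trans (QuotientGroup.map_mk'_self W).le
  refine key (upperPSeries p G (2 * k)).1 _ ?_
  conv_lhs => rw [upperPSeries, if_pos (even_two_mul k)]

theorem upperPSeries_even_succ (k : ℕ) :
    (upperPSeries p G (2 * k + 2)).1.map (QuotientGroup.mk' (upperPSeries p G (2 * k + 1)).1) =
      pCore p (G ⧸ (upperPSeries p G (2 * k + 1)).1) := by
  rw [show 2 * k + 2 = (2 * k + 1) + 1 from rfl]
  conv_lhs => arg 2; rw [upperPSeries, if_neg (Nat.not_even_two_mul_add_one k)]
  exact map_comap_eq_self_of_surjective (QuotientGroup.mk'_surjective _) _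

end Cfsg.Agent.Lib.Thompson
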