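import Cfsg.Agent.Lib.PStab.Section
import Cfsg.Agent.Lib.Classical.Simple
import Cfsg.Agent.Lib.GenStruct.PHall
import Cfsg.Agent.Lib.PLength.Basic
import Cfsg.Agent.Lib.Hall.Basic
import Cfsg.Agent.Lib.Thompson.Stable
import Cfsg.Prelude.Def_PLocal

/-!
Action p-stability of groups without SL(2,p) as a section.
-/

set_option autoImplicit false
open Subgroup
open scoped commutatorElement MatrixGroups

namespace Cfsg.Agent.Lib.Thompson

open Cfsg

/-- No subgroup of `G` maps onto `SL(2,p)`. -/
def NoSL2 (p : ℕ) (G : Type*) [Group G] : Prop :=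
  ∀ (L : Subgroup G) (π : L →* SL(2, ZMod p)), ¬ Function.Surjective π

variable {G : Type*} [Group G] {p : ℕ}

theorem NoSL2.subgroup (h : NoSL2 p G) (B : Subgroup G) : NoSL2 p B := by
  intro L π hπ
  let e := (L.equivMapOfInjective B.subtype B.subtype_injective).symm
  exact h (L.map B.subtype) (π.comp e.toMonoidHom) (hπ.comp e.surjective)

theorem NoSL2.quotient (h : NoSL2 p G) (N : Subgroup G) [N.Normal] : NoSL2 p (G ⧸ N) := by
  intro L π hπ
  let f : L.comap (QuotientGroup.mk' N) →* L :=
    ((QuotientGroup.mk' N).comp (L.comap (QuotientGroup.mk' N)).subtype).codRestrict L fun x => x.2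
  have hf : Function.Surjective f := by
    rintro ⟨y, hy⟩
    obtain ⟨g, rfl⟩ := QuotientGroup.mk'_surjective N y
    exact ⟨⟨g, hy⟩, rfl⟩
  exact h _ (π.comp f) (hπ.comp hf)

variable [hp : Fact p.Prime]

theorem transvection_pow (i j : Fin 2) (hij : i ≠ j) (u : ZMod p) (n : ℕ) :
    (Matrix.SpecialLinearGroup.transvection hij u : SL(2, ZMod p)) ^ n =
      Matrix.SpecialLinearGroup.transvection hij (n * u) := by
  induction n with
  | zero =>
    rw [pow_zero, Nat.cast_zero, zero_mul]
    exact Subtype.ext (by simp [Matrix.SpecialLinearGroup.transvection_coe])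
  | succ n ih =>
    rw [pow_succ, ih]
    refine Subtype.ext ?_
    simp [Matrix.SpecialLinearGroup.transvection_coe, mul_add, add_mul,
      Matrix.single_mul_single_of_ne _ _ _ _ hij.symm, ← Matrix.single_add, add_assoc]

theorem transvection_pow_p (i j : Fin 2) (hij : i ≠ j) (u : ZMod p) :
    (Matrix.SpecialLinearGroup.transvection hij u : SL(2, ZMod p)) ^ p = 1 := by
  rw [transvection_pow, ZMod.natCast_self, zero_mul]
  exact Subtype.ext (by simp [Matrix.SpecialLinearGroup.transvection_coe])

/-- `SL(2,p)` is not p-solvable for `p ≥ 5`. -/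
theorem not_isPSolvable_SL2 (h5 : 5 ≤ p) : ¬ IsPSolvable p SL(2, ZMod p) := by
  rintro ⟨n, H, h0, hlast, hmono, hnorm, hfac⟩
  suffices key : ∀ i, H i = ⊤ by
    have h := (key 0).symm.trans h0
    have : Nontrivial SL(2, ZMod p) := ⟨⟨Matrix.SpecialLinearGroup.transvection (show (0 : Fin 2) ≠ 1 by decide) 1,
      1, fun e => by
        have := congrArg (fun m : SL(2, ZMod p) => (m : Matrix (Fin 2) (Fin 2) (ZMod p)) 0 1) e
        simp [Matrix.SpecialLinearGroup.transvection_coe] at this⟩⟩
    exact bot_ne_top h.symm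
  intro i
  induction i using Fin.reverseInduction with
  | last => exact hlast
  | cast i ih =>
    have hN := hnorm i.castSucc
    set N := H i.castSucc
    have htr : ∀ (i j : Fin 2) (hij : i ≠ j) (u : ZMod p),
        Matrix.SpecialLinearGroup.transvection hij u ∈ N := by
      intro a b hab u
      rcases hfac i with ⟨m, hm⟩ | hc
      · rw [ih, relIndex_top_right] at hm
        have hnd : ∀ k : ℕ, 0 < k → k < 5 → (k : ZMod p) ≠ 0 := fun k h1 h2 e => by
          have h3 := Nat.le_of_dvd h1 ((ZMod.natCast_eq_zero_iff k p).mp e)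
          omega
        have h20 : (2 : ZMod p) ≠ 0 := by simpa using hnd 2 (by norm_num) (by norm_num)
        have h30 : (3 : ZMod p) ≠ 0 := by simpa using hnd 3 (by norm_num) (by norm_num)
        have h40 : (2 : ZMod p) * 2 ≠ 0 := mul_ne_zero h20 h20
        let D : ∀ x : ZMod p, x ≠ 0 → SL(2, ZMod p) := fun x hx =>
          ⟨!![x, 0; 0, x⁻¹], by simp [Matrix.det_fin_two, mul_inv_cancel₀ hx]⟩
        have hD : ∀ x hx, D x hx ∈ N := by
          intro x hx
          have hpow : ∀ k, ((D x hx ^ k : SL(2, ZMod p)) : Matrix (Fin 2) (Fin 2) (ZMod p)) =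
              !![x ^ k, 0; 0, (x⁻¹) ^ k] := by
            intro k
            induction k with
            | zero => ext a b; fin_cases a <;> fin_cases b <;> simp
            | succ k ihk =>
              rw [pow_succ, Matrix.SpecialLinearGroup.coe_mul, ihk]
              ext a b
              fin_cases a <;> fin_cases b <;> simp [D, Matrix.mul_apply, Fin.sum_univ_two, pow_succ]
          have h1 : D x hx ^ (p - 1) = 1 := Subtype.ext (by
            rw [hpow, ZMod.pow_card_sub_one_eq_one hx, ZMod.pow_card_sub_one_eq_one (inv_ne_zero hx),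
              ← Matrix.one_fin_two]
            rfl)
          have h2 : orderOf (QuotientGroup.mk' N (D x hx)) ∣ 1 := by
            have hA : orderOf (QuotientGroup.mk' N (D x hx)) ∣ p - 1 :=
              orderOf_dvd_of_pow_eq_one (by rw [← map_pow, h1, map_one])
            have hB : orderOf (QuotientGroup.mk' N (D x hx)) ∣ p ^ m := by
              rw [← hm, index_eq_card]; exact orderOf_dvd_natCard _
            have hcop : (p - 1).Coprime (p ^ m) := by
              refine Nat.Coprime.pow_right m ((hp.out.coprime_iff_not_dvd.mpr fun h => ?_).symm)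
              have := Nat.le_of_dvd (by omega) h
              omega
            rw [← hcop.gcd_eq_one]
            exact Nat.dvd_gcd hA hB
          exact (QuotientGroup.eq_one_iff _).mp (orderOf_eq_one_iff.mp (Nat.dvd_one.mp h2))
        have hmem := hN.conj_mem _ (hD 2 h20) (Matrix.SpecialLinearGroup.transvection hab (-(u * 3⁻¹)))
        have hcomm := mul_mem hmem (inv_mem (hD 2 h20))
        have e : Matrix.SpecialLinearGroup.transvection hab (-(u * 3⁻¹)) * D 2 h20 *
            (Matrix.SpecialLinearGroup.transvection hab (-(u * 3⁻¹)))⁻¹ * (D 2 h20)⁻¹ =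
            Matrix.SpecialLinearGroup.transvection hab
              (if a = 0 then u else -(u * 3⁻¹) * (1 - (2 * 2)⁻¹)) := by
          rw [mul_inv_eq_iff_eq_mul, mul_inv_eq_iff_eq_mul]
          refine Subtype.ext ?_
          have hDc : (D 2 h20 : Matrix (Fin 2) (Fin 2) (ZMod p)) = !![2, 0; 0, 2⁻¹] := rfl
          simp only [Matrix.SpecialLinearGroup.coe_mul, Matrix.SpecialLinearGroup.transvection_coe, hDc]
          ext r c
          fin_cases a <;> fin_cases b <;> fin_cases r <;> fin_cases c <;>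
            first
              | exact absurd rfl hab
              | (simp [Matrix.mul_apply, Fin.sum_univ_two, Matrix.one_apply, Matrix.single_apply]
                 try field_simp
                 try ring)
        rw [e] at hcomm
        by_cases ha : a = 0
        · rwa [if_pos ha] at hcomm
        · rw [if_neg ha] at hcomm
          set c := -(u * 3⁻¹) * (1 - (2 * 2)⁻¹) with hc'
          have hu : u = (-(2 * 2) : ZMod p) * c := by
            rw [hc']; field_simp; ring
          have hpow := pow_mem hcomm ((-(2 * 2) : ZMod p)).val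
          rwa [transvection_pow, ZMod.natCast_rightInverse, ← hu] at hpow
      · rw [ih, relIndex_top_right] at hc
        have h2 : orderOf (QuotientGroup.mk' N (Matrix.SpecialLinearGroup.transvection hab u)) ∣ 1 := by
          have hA : orderOf (QuotientGroup.mk' N (Matrix.SpecialLinearGroup.transvection hab u)) ∣ p :=
            orderOf_dvd_of_pow_eq_one (by rw [← map_pow, transvection_pow_p, map_one])
          have hB : orderOf (QuotientGroup.mk' N (Matrix.SpecialLinearGroup.transvection hab u)) ∣ N.index := by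
            rw [index_eq_card]; exact orderOf_dvd_natCard _
          rw [← hc.symm.gcd_eq_one]
          exact Nat.dvd_gcd hA hB
        exact (QuotientGroup.eq_one_iff _).mp (orderOf_eq_one_iff.mp (Nat.dvd_one.mp h2))
    refine eq_top_iff.mpr fun g _ => ?_
    exact Classical.SL_transvection_induction (· ∈ N) (one_mem _) htr (fun _ _ => mul_mem) g

variable [Finite G]

theorem noSL2_of_isPSolvable (h5 : 5 ≤ p) (h : IsPSolvable p G) : NoSL2 p G := fun L _ hπ =>
  not_isPSolvable_SL2 h5 (PLength.isPSolvable_map hπ (GenStruct.PHall.isPSolvable_subgroup h L))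

theorem exists_sq_add_sq_eq_neg_one : ∃ a b : ZMod p, a ^ 2 + b ^ 2 = -1 := by
  obtain ⟨a, b, h⟩ := ZMod.sq_add_sq p (-1)
  exact ⟨a, b, h⟩

theorem noSL2_of_abelian_sylow_two (hp2 : p ≠ 2) (hab : ∀ T : Sylow 2 G, IsMulCommutative T) : NoSL2 p G := by
  intro L π hπ
  haveI : Fact (Nat.Prime 2) := ⟨Nat.prime_two⟩
  obtain ⟨a, b, hab2⟩ := exists_sq_add_sq_eq_neg_one (p := p)
  let i : SL(2, ZMod p) := ⟨!![a, b; b, -a], by simp [Matrix.det_fin_two]; linear_combination -hab2⟩
  let j : SL(2, ZMod p) := ⟨!![0, 1; -1, 0], by simp [Matrix.det_fin_two]⟩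
  have hi4 : i ^ 4 = 1 := Subtype.ext (by
    rw [Matrix.SpecialLinearGroup.coe_pow]
    show (!![a, b; b, -a]) ^ 4 = (1 : Matrix (Fin 2) (Fin 2) (ZMod p))
    have h2 : (!![a, b; b, -a] : Matrix (Fin 2) (Fin 2) (ZMod p)) * !![a, b; b, -a] = !![-1, 0; 0, -1] := by
      ext r c
      fin_cases r <;> fin_cases c <;> simp [Matrix.mul_apply, Fin.sum_univ_two] <;>
        first | linear_combination hab2 | linear_combination -hab2 | ring
    rw [show (4 : ℕ) = 2 * 2 from rfl, pow_mul, sq, sq, h2, Matrix.one_fin_two]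
    simp)
  have hj4 : j ^ 4 = 1 := Subtype.ext (by
    rw [Matrix.SpecialLinearGroup.coe_pow]
    show (!![0, 1; -1, 0]) ^ 4 = (1 : Matrix (Fin 2) (Fin 2) (ZMod p))
    rw [show (4 : ℕ) = 2 * 2 from rfl, pow_mul, sq, sq, Matrix.one_fin_two]
    simp)
  have hic : (i : Matrix (Fin 2) (Fin 2) (ZMod p)) = !![a, b; b, -a] := rfl
  have hjc : (j : Matrix (Fin 2) (Fin 2) (ZMod p)) = !![0, 1; -1, 0] := rfl
  have hrel : i * j = j⁻¹ * i := by
    rw [eq_inv_mul_iff_mul_eq]
    refine Subtype.ext ?_
    simp only [Matrix.SpecialLinearGroup.coe_mul, hic, hjc]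
    ext r c
    fin_cases r <;> fin_cases c <;> simp [Matrix.mul_apply, Fin.sum_univ_two]
  have hne : i * j ≠ j * i := by
    intro e
    have e1 := congrArg (fun m : SL(2, ZMod p) => (m : Matrix (Fin 2) (Fin 2) (ZMod p)) 0 0) e
    have e2 := congrArg (fun m : SL(2, ZMod p) => (m : Matrix (Fin 2) (Fin 2) (ZMod p)) 0 1) e
    simp only [Matrix.SpecialLinearGroup.coe_mul, hic, hjc] at e1 e2
    simp [Matrix.mul_apply, Fin.sum_univ_two] at e1 e2
    have h20 : (2 : ZMod p) ≠ 0 := by
      intro e'
      have e'' : ((2 : ℕ) : ZMod p) = 0 := by exact_mod_cast e'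
      exact hp2 ((Nat.prime_dvd_prime_iff_eq hp.out Nat.prime_two).mp ((ZMod.natCast_eq_zero_iff _ _).mp e''))
    have hb : b = 0 := by
      have : 2 * b = 0 := by linear_combination -e1
      exact (mul_eq_zero.mp this).resolve_left h20
    have ha : a = 0 := by
      have : 2 * a = 0 := by linear_combination e2
      exact (mul_eq_zero.mp this).resolve_left h20
    rw [ha, hb] at hab2
    simp at hab2
  set Q := zpowers i ⊔ zpowers j
  have hin : zpowers i ≤ normalizer (zpowers j : Set SL(2, ZMod p)) := zpowers_le.mpr (by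
    refine mem_normalizer_fintype ?_
    rintro _ ⟨k, rfl⟩
    refine ⟨-k, ?_⟩
    show j ^ (-k) = i * j ^ k * i⁻¹
    rw [← conj_zpow, hrel, mul_inv_cancel_right, inv_zpow, zpow_neg])
  have hQ : IsPGroup 2 Q := by
    have h := Coprime.card_sup_mul_card_inf_of_le_normalizer (A := zpowers i) (N := zpowers j) hin
    have h16 : Nat.card Q ∣ 2 ^ 4 := by
      have hci : Nat.card (zpowers i) ∣ 2 ^ 2 := by rw [Nat.card_zpowers]; exact orderOf_dvd_of_pow_eq_one hi4
      have hcj : Nat.card (zpowers j) ∣ 2 ^ 2 := by rw [Nat.card_zpowers]; exact orderOf_dvd_of_pow_eq_one hj4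
      exact ((h ▸ Dvd.intro _ rfl : Nat.card Q ∣ Nat.card (zpowers i) * Nat.card (zpowers j)).trans
        (mul_dvd_mul hci hcj)).trans (by norm_num)
    obtain ⟨k, -, hk⟩ := (Nat.dvd_prime_pow Nat.prime_two).mp h16
    exact IsPGroup.of_card hk
  let f : Q.comap π →* Q := (π.comp (Q.comap π).subtype).codRestrict Q fun x => x.2
  have hf : Function.Surjective f := by
    rintro ⟨y, hy⟩
    obtain ⟨g, rfl⟩ := hπ y
    exact ⟨⟨g, hy⟩, rfl⟩
  obtain ⟨P⟩ := (inferInstance : Nonempty (Sylow 2 (Q.comap π)))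
  have htop : (P : Subgroup (Q.comap π)).map f = ⊤ :=
    ((P.mapSurjective hf).3 (Q := ⊤) (IsPGroup.of_equiv hQ Subgroup.topEquiv.symm) le_top).symm
  obtain ⟨T, hT⟩ := ((P.2.map (Q.comap π).subtype).map L.subtype).exists_le_sylow
  obtain ⟨x, hx, hxi⟩ := htop.ge (mem_top (⟨i, mem_sup_left (mem_zpowers i)⟩ : Q))
  obtain ⟨y, hy, hyj⟩ := htop.ge (mem_top (⟨j, mem_sup_right (mem_zpowers j)⟩ : Q))
  have hh := congrArg Subtype.val ((hab T).is_comm.comm
    ⟨_, hT (mem_map_of_mem _ (mem_map_of_mem _ hx))⟩ ⟨_, hT (mem_map_of_mem _ (mem_map_of_mem _ hy))⟩)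
  have hxy : x * y = y * x := Subtype.ext (Subtype.ext (by simpa using hh))
  refine hne ?_
  have := congrArg (fun z => (f z : SL(2, ZMod p))) hxy
  simpa [map_mul, hxi, hyj] using this

/-- Without `SL(2,p)` sections, the action on a normal p-subgroup is p-stable. -/
theorem isPStableOn_of_noSL2 (hp2 : p ≠ 2) (hno : NoSL2 p G) (V : Subgroup G) [V.Normal] (hV : IsPGroup p V) :
    IsPStableOn p V := by
  intro a ha
  set π := QuotientGroup.mk' (centralizer (V : Set G))
  by_contra hcon
  have hq : ∀ x ∈ V, Commute a ⁅a, x⁆ := by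
    intro x hx
    have h1 : ⁅a, x⁆ ∈ ⁅V, zpowers a⁆ := by
      rw [commutator_comm]; exact commutator_mem_commutator (mem_zpowers a) hx
    exact mem_centralizer_iff.mp (commutator_eq_bot_iff_le_centralizer.mp ha h1) a (mem_zpowers a)
  have hD0 : ∀ D : Subgroup (⊤ : Subgroup G), D.Normal →
      (∀ d ∈ D, ∃ n, (d : G) ^ p ^ n ∈ centralizer (V : Set G)) → (⟨a, mem_top a⟩ : (⊤ : Subgroup G)) ∉ D := by
    intro D hD hDp haD
    refine hcon ?_
    set D' := D.map (⊤ : Subgroup G).subtype
    have hD' : D'.Normal := ⟨fun x hx g => by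
      obtain ⟨y, hy, rfl⟩ := hx
      exact ⟨⟨g, mem_top g⟩ * y * ⟨g, mem_top g⟩⁻¹, hD.conj_mem y hy _, rfl⟩⟩
    have hn : (D'.map π).Normal := hD'.map π (QuotientGroup.mk'_surjective _)
    have hpg : IsPGroup p (D'.map π) := by
      rintro ⟨_, x, ⟨y, hy, rfl⟩, rfl⟩
      obtain ⟨k, hk⟩ := hDp y hy
      refine ⟨k, Subtype.ext ?_⟩
      rw [SubmonoidClass.coe_pow, ← map_pow]
      exact (QuotientGroup.eq_one_iff _).mpr hk
    exact Hall.le_pCore hpg (mem_map_of_mem π (show a ∈ D' from ⟨⟨a, mem_top a⟩, haD, rfl⟩))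
  obtain ⟨L, π', -, -, hπ', -⟩ := PStab.exists_sl2_natural (P := V) hV hp2 (H := ⊤)
    (by rw [normalizer_eq_top]) (a := a) (mem_top a) hq hD0
  exact hno L π' hπ'

/-- Without `SL(2,p)` sections, `G` is action p-stable. -/
theorem isActionPStable_of_noSL2 (hp2 : p ≠ 2) (hno : NoSL2 p G) : IsActionPStable p G := by
  refine ⟨fun V _ hV => isPStableOn_of_noSL2 hp2 hno V (isPGroup_of_elementary hV), ?_, fun S V _ hV => ?_⟩
  · intro a ha
    set K := pCore p G
    set N := (frattini ↥(pCore p G)).map (pCore p G).subtype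
    set π := QuotientGroup.mk' N
    haveI : (K.map π).Normal := Normal.map inferInstance π (QuotientGroup.mk'_surjective N)
    have hKp : IsPGroup p (K.map π) := (Hall.isPGroup_pCore p).map π
    have hst := isPStableOn_of_noSL2 hp2 (hno.quotient N) (K.map π) hKp (π a) (by
      rw [← MonoidHom.map_zpowers, ← map_commutator, ← map_commutator, Subgroup.map_eq_bot_iff,
        QuotientGroup.ker_mk']
      exact ha)
    set C := centralizer ((K.map π : Subgroup (G ⧸ N)) : Set (G ⧸ N))
    set ψ : G →* (G ⧸ N) ⧸ C := (QuotientGroup.mk' C).comp π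
    have hker : ψ.ker = sectionKernel K N := by
      rw [← MonoidHom.comap_ker, QuotientGroup.ker_mk']; rfl
    refine ⟨(pCore p _).comap ψ, (Hall.pCore_normal p).comap ψ, ?_, ?_, hst⟩
    · rw [← hker]; exact fun g hg => mem_comap.mpr ((MonoidHom.mem_ker.mp hg).symm ▸ one_mem _)
    · obtain ⟨k, hk⟩ := IsPGroup.iff_card.mp (Hall.isPGroup_pCore (G := (G ⧸ N) ⧸ C) p)
      refine ⟨k, ?_⟩
      rw [← hker, ← MonoidHom.comap_bot, relIndex_comap, map_comap_eq_self_of_surjective
        (show Function.Surjective ψ from (QuotientGroup.mk'_surjective C).comp (QuotientGroup.mk'_surjective N)),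
        relIndex_bot_left]
      exact hk
  · refine isPStableOn_of_noSL2 hp2 (hno.subgroup _) V ?_
    have h1 : IsPGroup p (V.map (normalizer (thompsonSubgroupOf p (S : Subgroup G) : Set G)).subtype) :=
      S.2.to_le (hV.trans (map_subtype_le _))
    exact h1.of_equiv (V.equivMapOfInjective _ (subtype_injective _)).symm

end Cfsg.Agent.Lib.Thompson
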