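import Cfsg.Agent.Lib.Thompson.ZJ
import Cfsg.Agent.Lib.OddLocal.CoprimeOdd
import Cfsg.Agent.Lib.Transfer.Basic

/-!
Glauberman ZJ theorem: `Z(J(S))` itself is normal for the Thompson subgroup generated by the elementary
abelian subgroups of largest order.
-/

set_option autoImplicit false
open Subgroup
open scoped commutatorElement

namespace Cfsg.Agent.Lib.Thompson

variable {G : Type*} [Group G] {p : ℕ}

theorem commute_center_thompson (S : Subgroup G) {A : Subgroup S}
    (hA : A ∈ Cfsg.maxElementaryAbelianSubgroups p S) {a z : G} (ha : a ∈ A.map S.subtype)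
    (hz : z ∈ Cfsg.centerThompsonOf p S) : a * z = z * a :=
  mem_centralizer_iff.mp hz.2 a (map_mono (le_sSup hA) ha)

theorem pow_eq_one_omega [hp : Fact p.Prime] (hp2 : p ≠ 2) {B : Subgroup G} (hB : ⁅⁅B, B⁆, B⁆ = ⊥) {x : G}
    (hx : x ∈ Cfsg.omegaOne p B) : x ∈ B ∧ x ^ p = 1 := by
  induction hx using closure_induction with
  | mem x hx => exact hx
  | one => exact ⟨one_mem _, one_pow p⟩
  | inv x hx ih => exact ⟨inv_mem ih.1, by rw [inv_pow, ih.2, inv_one]⟩
  | mul u v hu hv ihu ihv =>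
    refine ⟨mul_mem ihu.1 ihv.1, ?_⟩
    have hcomm : ∀ x ∈ B, ∀ y ∈ B, ∀ w ∈ B, Commute ⁅x, y⁆ w := fun x hx y hy w hw =>
      commutatorElement_eq_one_iff_commute.mp (mem_bot.mp (hB ▸
        commutator_mem_commutator (commutator_mem_commutator hx hy) hw))
    have hc := hcomm _ (inv_mem ihv.1) _ (inv_mem ihu.1)
    have hz : ⁅v⁻¹, u⁻¹⁆ ^ p = 1 := by
      rw [← commutator_pow_left (hc _ (inv_mem ihv.1)), inv_pow, ihv.2, inv_one, commutatorElement_one_left]
    rw [mul_pow_class_two (mul_comm_eq u v) (hc _ ihu.1) (hc _ ihv.1), ihu.2, ihv.2, one_mul, one_mul]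
    obtain ⟨q, hq⟩ : p ∣ p.choose 2 := hp.out.dvd_choose_self two_ne_zero
      (lt_of_le_of_ne hp.out.two_le (Ne.symm hp2))
    rw [hq, pow_mul, hz, one_pow]

theorem zj_center_normal [Finite G] [hp : Fact p.Prime] (hp2 : p ≠ 2) (S : Sylow p G)
    (hc : centralizer (Cfsg.pCore p G : Set G) ≤ Cfsg.pCore p G)
    (hst : ∀ (P : Subgroup G) [P.Normal], IsPGroup p P → Cfsg.IsPStableOn p P) :
    (Cfsg.centerThompsonOf p (S : Subgroup G)).Normal := by
  set Z := Cfsg.centerThompsonOf p (S : Subgroup G) with hZdef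
  let ι := (S : Subgroup G).subtype
  have hinj : Function.Injective ι := (S : Subgroup G).subtype_injective
  let F := (fun A => A.map ι) '' Cfsg.maxElementaryAbelianSubgroups p ↥(S : Subgroup G)
  have hJS : Cfsg.thompsonSubgroupOf p (S : Subgroup G) ≤ (S : Subgroup G) := map_subtype_le _
  have hZS : Z ≤ (S : Subgroup G) := inf_le_left.trans hJS
  have hFS : ∀ A ∈ F, A ≤ (S : Subgroup G) := by rintro _ ⟨A, -, rfl⟩; exact map_subtype_le A
  have hconj : ∀ A ∈ F, ∀ g : G, A.map (MulAut.conj g).toMonoidHom ≤ (S : Subgroup G) →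
      A.map (MulAut.conj g).toMonoidHom ∈ F := by
    rintro _ ⟨A, hA, rfl⟩ g hg
    have he : (((A.map ι).map (MulAut.conj g).toMonoidHom).subgroupOf S).map ι =
        (A.map ι).map (MulAut.conj g).toMonoidHom := by
      rw [subgroupOf_map_subtype]; exact inf_eq_left.mpr hg
    refine ⟨_, ⟨?_, fun C hC => ?_⟩, he⟩
    · exact isElementaryAbelian_comap hinj (isElementaryAbelian_map _ (isElementaryAbelian_map _ hA.1))
    · rw [← card_map_of_injective (K := ((A.map ι).map (MulAut.conj g).toMonoidHom).subgroupOf S) hinj, he,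
        card_map_of_injective (MulAut.conj g).injective, card_map_of_injective hinj]
      exact hA.2 C hC
  have hFZ : ∀ A ∈ F, ∀ a ∈ A, ∀ z ∈ Z, a * z = z * a := by
    rintro _ ⟨A, hA, rfl⟩ a ha z hz
    exact commute_center_thompson _ hA ha hz
  have hmemF : ∀ A ∈ F, ∀ x ∈ (S : Subgroup G), x ^ p = 1 → (∀ a ∈ A, a * x = x * a) → x ∈ A := by
    rintro _ ⟨A, hA, rfl⟩ x hxS hxp hxc
    exact ⟨⟨x, hxS⟩, mem_maxElementary_of_commute hA
      (fun a ha => Subtype.ext (hxc _ (mem_map_of_mem _ ha))) (Subtype.ext hxp), rfl⟩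
  have hZn : ∀ n : G, (∀ A ∈ F, A.map (MulAut.conj n).toMonoidHom ∈ F) → ∀ x ∈ Z, n * x * n⁻¹ ∈ Z := by
    intro n hn x hx
    have hle : (Cfsg.thompsonSubgroupOf p (S : Subgroup G)).map (MulAut.conj n).toMonoidHom ≤
        Cfsg.thompsonSubgroupOf p (S : Subgroup G) := by
      rw [Cfsg.thompsonSubgroupOf, map_le_iff_le_comap, map_le_iff_le_comap]
      refine sSup_le fun A hA => ?_
      obtain ⟨B, hB, hAB⟩ := hn _ ⟨A, hA, rfl⟩
      rw [← map_le_iff_le_comap, ← map_le_iff_le_comap]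
      exact hAB.ge.trans (map_mono (le_sSup hB))
    have heq := eq_of_le_of_card_ge hle (card_map_of_injective (MulAut.conj n).injective).ge
    refine ⟨hle ⟨x, hx.1, rfl⟩, mem_centralizer_iff.mpr fun y hy => ?_⟩
    rw [← heq] at hy
    obtain ⟨w, hw, rfl⟩ := hy
    have h := mem_centralizer_iff.mp hx.2 w hw
    show n * w * n⁻¹ * (n * x * n⁻¹) = n * x * n⁻¹ * (n * w * n⁻¹)
    calc n * w * n⁻¹ * (n * x * n⁻¹) = n * (w * x) * n⁻¹ := by group
      _ = n * (x * w) * n⁻¹ := by rw [h]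
      _ = _ := by group
  have hZc : ∀ x ∈ Z, ∀ y ∈ Z, x * y = y * x := fun x hx y hy => mem_centralizer_iff.mp hy.2 x hx.1
  have hSF : ∀ s ∈ (S : Subgroup G), ∀ A ∈ F, A.map (MulAut.conj s).toMonoidHom ∈ F := by
    intro s hs A hA
    refine hconj A hA s ?_
    rintro _ ⟨a, ha, rfl⟩
    exact mul_mem (mul_mem hs (hFS A hA ha)) (inv_mem hs)
  have hSZ : ∀ s ∈ (S : Subgroup G), ∀ x ∈ Z, s * x * s⁻¹ ∈ Z := fun s hs => hZn s (hSF s hs)
  suffices key : ∀ B : Subgroup G, B.Normal → IsPGroup p B → (B ⊓ Z).Normal by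
    have hZQ : Z ≤ Cfsg.pCore p G := by
      intro z hz
      have hQS := Cfsg.Agent.Lib.Hall.pCore_le_sylow S
      have h1 : ⁅Cfsg.pCore p G, zpowers z⁆ ≤ Z := commutator_le.mpr fun q hq v hv => by
        have hv' := zpowers_le.mpr hz hv
        rw [commutatorElement_def]
        exact mul_mem (hSZ q (hQS hq) v hv') (inv_mem hv')
      have h2 := hst _ (Cfsg.Agent.Lib.Hall.isPGroup_pCore p) z (eq_bot_iff.mpr
        ((commutator_mono h1 (zpowers_le.mpr hz)).trans (commutator_le.mpr fun u hu v hv => by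
          rw [mem_bot, commutatorElement_eq_one_iff_commute]; exact hZc u hu v hv)))
      let π := QuotientGroup.mk' (centralizer (Cfsg.pCore p G : Set G))
      let D := (Cfsg.pCore p (G ⧸ centralizer (Cfsg.pCore p G : Set G))).comap π
      have hDp : IsPGroup p D := (Cfsg.Agent.Lib.Hall.isPGroup_pCore p).comap_of_ker_isPGroup π (by
        rw [QuotientGroup.ker_mk']
        exact (Cfsg.Agent.Lib.Hall.isPGroup_pCore p).to_le hc)
      exact Cfsg.Agent.Lib.Hall.le_pCore (N := D) hDp h2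
    have := key _ inferInstance (Cfsg.Agent.Lib.Hall.isPGroup_pCore p)
    rwa [inf_eq_right.mpr hZQ] at this
  intro B
  induction hn : Nat.card B using Nat.strong_induction_on generalizing B with
  | _ n ih =>
  intro hBn hBp
  subst hn
  by_contra hbad
  set Z₁ := B ⊓ Z with hZ₁
  have hBS : B ≤ (S : Subgroup G) :=
    (Cfsg.Agent.Lib.Hall.le_pCore hBp).trans (Cfsg.Agent.Lib.Hall.pCore_le_sylow S)
  let B₁ := normalClosure (Z₁ : Set G)
  have hB₁B : B₁ ≤ B := normalClosure_le_normal inf_le_left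
  have hB₁eq : B₁ = B := by
    refine eq_of_le_of_card_ge hB₁B (not_lt.mp fun hlt => hbad ?_)
    have h1 := ih _ hlt B₁ rfl normalClosure_normal (hBp.to_le hB₁B)
    have h2 : B₁ ⊓ Z = Z₁ := le_antisymm (inf_le_inf_right _ hB₁B) (le_inf le_normalClosure inf_le_right)
    rwa [h2] at h1
  have hBnt : Nontrivial B := by
    rw [nontrivial_iff_ne_bot]
    intro hb
    apply hbad
    have : Z₁ = ⊥ := by rw [hZ₁, hb, bot_inf_eq]
    rw [this]; infer_instance
  have hlt : ⁅B, B⁆ < B := by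
    refine lt_of_le_of_ne (commutator_le_self B) fun e => ?_
    have h1 : commutator B = ⊤ := by
      apply map_injective B.subtype_injective
      rw [map_subtype_commutator, e, ← MonoidHom.range_eq_map, range_subtype]
    have : Group.IsNilpotent B := hBp.isNilpotent
    have h2 : ∀ k, (⊤ : Subgroup B).lowerCentralSeries k = ⊤ := by
      intro k
      induction k with
      | zero => rfl
      | succ k ihk => rw [Subgroup.lowerCentralSeries_succ, ihk]; exact h1
    obtain ⟨k, hk⟩ := Subgroup.nilpotent_iff_lowerCentralSeries.mp ‹Group.IsNilpotent B›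
    exact bot_ne_top (hk.symm.trans (h2 k))
  have hD : ((⁅B, B⁆ : Subgroup G) ⊓ Z).Normal :=
    ih _ (Set.ncard_lt_ncard (SetLike.coe_ssubset_coe.mpr hlt) (Set.toFinite _)) _ rfl inferInstance
      (hBp.to_le hlt.le)
  have hgenB : ∀ {K : Subgroup G}, (∀ g : G, ∀ x ∈ Z₁, g * x * g⁻¹ ∈ K) → B ≤ K := by
    intro K h
    rw [← hB₁eq]
    refine (closure_le K).mpr fun v hv => ?_
    obtain ⟨x, hx, hv'⟩ := Group.mem_conjugatesOfSet_iff.mp hv
    obtain ⟨g, rfl⟩ := isConj_iff.mp hv'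
    exact h g x hx
  have hcomm : ∀ x ∈ Z₁, ∀ y ∈ B, ⁅x, y⁆ ∈ ⁅B, B⁆ ⊓ Z := by
    intro x hx y hy
    refine mem_inf.mpr ⟨commutator_mem_commutator hx.1 hy, ?_⟩
    rw [← commutatorElement_inv]
    refine inv_mem ?_
    rw [commutatorElement_def]
    exact mul_mem (hSZ y (hBS hy) x hx.2) (inv_mem hx.2)
  have hB'Z : ⁅B, B⁆ ≤ ⁅B, B⁆ ⊓ Z := by
    rw [commutator_le]
    intro u hu y hy
    let π := QuotientGroup.mk' (⁅B, B⁆ ⊓ Z)
    have hle : B ≤ (centralizer (B.map π : Set (G ⧸ ⁅B, B⁆ ⊓ Z))).comap π := by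
      refine hgenB fun g x hx => mem_centralizer_iff.mpr ?_
      rintro _ ⟨w, hw, rfl⟩
      refine (commutatorElement_eq_one_iff_commute.mp ?_ : Commute (π (g * x * g⁻¹)) (π w)).symm
      rw [← map_commutatorElement]
      refine (QuotientGroup.eq_one_iff _).mpr ?_
      have h := hD.conj_mem _ (hcomm x hx _ (hBn.conj_mem w hw g⁻¹)) g
      have e : g * ⁅x, g⁻¹ * w * g⁻¹⁻¹⁆ * g⁻¹ = ⁅g * x * g⁻¹, w⁆ := by
        simp only [commutatorElement_def]; group
      rwa [e] at h
    have h := mem_centralizer_iff.mp (hle hu) (π y) (mem_map_of_mem π hy)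
    rw [← QuotientGroup.eq_one_iff, ← QuotientGroup.mk'_apply, map_commutatorElement,
      commutatorElement_eq_one_iff_commute]
    exact h.symm
  have hcl2 : ⁅⁅B, B⁆, B⁆ = ⊥ := by
    rw [commutator_eq_bot_iff_le_centralizer]
    refine le_centralizer_iff.mp (hgenB fun g x hx => mem_centralizer_iff.mpr fun w hw => ?_)
    have hw' : g⁻¹ * w * g ∈ Z := by
      simpa using (hB'Z ((inferInstance : (⁅B, B⁆ : Subgroup G).Normal).conj_mem w hw g⁻¹)).2
    have h := hZc _ hw' x hx.2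
    calc w * (g * x * g⁻¹) = g * (g⁻¹ * w * g * x) * g⁻¹ := by group
      _ = _ := by rw [h]; group
  apply hbad
  -- the elements of order p of B
  set E := Cfsg.omegaOne p B
  have hEB : E ≤ B := (closure_le _).mpr fun x hx => hx.1
  have hEp : ∀ x ∈ E, x ^ p = 1 := fun x hx => (pow_eq_one_omega hp2 hcl2 hx).2
  have hEn : E.Normal := by
    refine ⟨fun x hx g => ?_⟩
    induction hx using closure_induction with
    | mem x hx =>
      exact subset_closure ⟨hBn.conj_mem x hx.1 g, by rw [conj_pow, hx.2, mul_one, mul_inv_cancel]⟩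
    | one => simp
    | mul u v _ _ ihu ihv =>
      rw [show g * (u * v) * g⁻¹ = g * u * g⁻¹ * (g * v * g⁻¹) by group]
      exact mul_mem ihu ihv
    | inv u _ ihu =>
      rw [show g * u⁻¹ * g⁻¹ = (g * u * g⁻¹)⁻¹ by group]
      exact inv_mem ihu
  have hcomm' : ∀ x ∈ B, ∀ y ∈ B, ∀ w ∈ B, Commute ⁅x, y⁆ w := fun x hx y hy w hw =>
    commutatorElement_eq_one_iff_commute.mp (mem_bot.mp (hcl2 ▸
      commutator_mem_commutator (commutator_mem_commutator hx hy) hw))
  have hEF : ∀ A ∈ F, ⁅E, E⁆ ≤ A := fun A hA => commutator_le.mpr fun u hu v hv => by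
    have hz : ⁅u, v⁆ ∈ Z := (hB'Z (commutator_mem_commutator (hEB hu) (hEB hv))).2
    refine hmemF A hA _ (hZS hz) ?_ fun a ha => hFZ A hA a ha _ hz
    rw [← commutator_pow_left (hcomm' _ (hEB hu) _ (hEB hv) _ (hEB hu)), hEp u hu, commutatorElement_one_left]
  let C := centralizer (B : Set G)
  let D := (Cfsg.pCore p (G ⧸ C)).comap (QuotientGroup.mk' C)
  have hpD : ∀ {N : Subgroup G}, N.Normal → (∀ d ∈ N, ∃ k : ℕ, d ^ p ^ k ∈ centralizer (E : Set G)) →
      N ≤ D := by
    intro N hN hd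
    refine map_le_iff_le_comap.mp ?_
    have : (N.map (QuotientGroup.mk' C)).Normal := hN.map _ (QuotientGroup.mk'_surjective C)
    refine Cfsg.Agent.Lib.Hall.le_pCore ?_
    rintro ⟨_, d, hdN, rfl⟩
    obtain ⟨k, hk⟩ := hd d hdN
    obtain ⟨j, hj⟩ := Cfsg.Agent.Lib.Transfer.exists_pow_coprime (p := p) (d ^ p ^ k)
    refine ⟨k + j, Subtype.ext ((QuotientGroup.eq_one_iff _).mpr ?_)⟩
    have h1 := Cfsg.Agent.Lib.OddLocal.le_centralizer_of_fix_order_p p hp2
      (A := zpowers ((d ^ p ^ k) ^ p ^ j)) (by rwa [Nat.card_zpowers]) hBp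
      (le_top.trans (normalizer_eq_top B).ge) (fun x hx hxp a ha => by
        have := zpowers_le.mpr (pow_mem hk (p ^ j)) ha
        exact (mem_centralizer_iff.mp this x (subset_closure ⟨hx, hxp⟩)).symm)
    show d ^ p ^ (k + j) ∈ C
    rw [pow_add, pow_mul]
    exact h1 (mem_zpowers _)
  have hpc : ∀ x ∈ Z₁, ∀ d ∈ D, ∃ y ∈ Z, d * x * d⁻¹ = y := by
    intro x hx d hd
    obtain ⟨s, hs, hsd⟩ := Cfsg.Agent.Lib.Hall.pCore_le_sylow
      (S.mapSurjective (QuotientGroup.mk'_surjective C)) hd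
    refine ⟨_, hSZ s hs x hx.2, ?_⟩
    have h1 := mem_centralizer_iff.mp (QuotientGroup.eq.mp hsd : s⁻¹ * d ∈ C) x hx.1
    calc d * x * d⁻¹ = s * (s⁻¹ * d * x) * (s⁻¹ * d)⁻¹ * s⁻¹ := by group
      _ = _ := by rw [← h1]; group
  by_cases hall : ∀ U ∈ F, E ≤ U
  · have hFD : ∀ U ∈ F, U ≤ D := by
      intro U hU
      refine le_trans ?_ (hpD (N := centralizer (E : Set G)) normal_centralizer fun d hd => ⟨0, by simpa using hd⟩)
      obtain ⟨U₀, hU₀, rfl⟩ := hU
      exact fun u hu => mem_centralizer_iff.mpr fun e he =>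
        commute_of_elementary (isElementaryAbelian_map _ hU₀.1) (hall _ ⟨U₀, hU₀, rfl⟩ he) hu
    obtain ⟨R, hR⟩ := exists_sylow_inf_normal S D
    have htop := Sylow.normalizer_sup_eq_top R
    rw [hR] at htop
    refine ⟨fun x hx g => ⟨hBn.conj_mem x hx.1 g, ?_⟩⟩
    obtain ⟨n, hn, d, hd, rfl⟩ := mem_sup_of_normal_right.mp (htop ▸ mem_top g)
    obtain ⟨y, hy, hdy⟩ := hpc x hx d hd
    rw [show n * d * x * (n * d)⁻¹ = n * (d * x * d⁻¹) * n⁻¹ by group, hdy]
    refine hZn n (fun A hA => hconj A hA n ?_) y hy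
    rintro _ ⟨a, ha, rfl⟩
    exact ((mem_normalizer_iff.mp hn a).mp ⟨hFS A hA ha, hFD A hA ha⟩).1
  · exfalso
    push Not at hall
    obtain ⟨_, ⟨U, hU, rfl⟩, hEU⟩ := hall
    have hES : E ≤ (S : Subgroup G) := hEB.trans hBS
    have hE : (E.subgroupOf S).map ι = E := by rw [subgroupOf_map_subtype, inf_eq_left.mpr hES]
    have hcl : ⁅⁅E.subgroupOf (S : Subgroup G), E.subgroupOf (S : Subgroup G)⁆,
        E.subgroupOf (S : Subgroup G)⁆ = ⊥ := by
      rw [← map_eq_bot_iff_of_injective _ hinj, map_commutator, map_commutator, hE, eq_bot_iff, ← hcl2]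
      exact commutator_mono (commutator_mono hEB hEB) hEB
    have h := Cfsg.Agent.S0652.result S.2 hp2 (⊤ : Subgroup ↥(S : Subgroup G)) _ hcl
    rw [image_top_eq (fun β _ => Cfsg.maxElementaryAbelianSubgroups p β)
      (fun e _ hA => map_mem_maxElementary e hA)] at h
    have hU1 : ⁅E.subgroupOf (S : Subgroup G), E.subgroupOf (S : Subgroup G)⁆ ≤ U := by
      rw [← map_le_map_iff_of_injective hinj, map_commutator, hE]
      exact hEF _ ⟨U, hU, rfl⟩
    have hU2 : ¬ E.subgroupOf (S : Subgroup G) ≤ U := fun hle => hEU (hE ▸ map_mono hle)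
    obtain ⟨A, hA, -, hA2, hA3⟩ := h ⟨U, hU, hU1, hU2⟩
    have hEA : ¬ E ≤ A.map ι := fun hle => hA2 (by rwa [← map_le_map_iff_of_injective hinj, hE])
    have hEN : E ≤ normalizer ((A.map ι : Subgroup G) : Set G) := by
      rw [← hE]; exact (map_mono hA3).trans (le_normalizer_map ι)
    have hAel := isElementaryAbelian_map ι hA.1
    have hAD : A.map ι ≤ D := by
      let DE := (Cfsg.pCore p (G ⧸ centralizer (E : Set G))).comap (QuotientGroup.mk' (centralizer (E : Set G)))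
      refine le_trans ?_ (hpD (N := DE) inferInstance fun d hd => ?_)
      · intro a ha
        refine hst E (hBp.to_le hEB) a (eq_bot_iff.mpr ?_)
        have h1 : ⁅E, zpowers a⁆ ≤ A.map ι := commutator_le.mpr fun b hb v hv => by
          have hv' := zpowers_le.mpr ha hv
          rw [commutatorElement_def]
          exact mul_mem ((mem_normalizer_iff.mp (hEN hb) v).mp hv') (inv_mem hv')
        exact (commutator_mono h1 (zpowers_le.mpr ha)).trans (commutator_le.mpr fun u hu v hv => by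
          rw [mem_bot, commutatorElement_eq_one_iff_commute]
          exact commute_of_elementary hAel hu hv)
      · obtain ⟨k, hk⟩ := Cfsg.Agent.Lib.Hall.isPGroup_pCore p
          (⟨_, hd⟩ : Cfsg.pCore p (G ⧸ centralizer (E : Set G)))
        exact ⟨k, (QuotientGroup.eq_one_iff _).mp (congrArg Subtype.val hk)⟩
    obtain ⟨R, hR⟩ := exists_sylow_inf_normal S D
    have htop := Sylow.normalizer_sup_eq_top R
    rw [hR] at htop
    have hBA : B ≤ centralizer ((A.map ι : Subgroup G) : Set G) := by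
      refine hgenB fun g x hx => mem_centralizer_iff.mpr fun a ha => ?_
      obtain ⟨n, hn, d, hd, rfl⟩ := mem_sup_of_normal_right.mp (htop ▸ mem_top g)
      obtain ⟨y, hy, hdy⟩ := hpc x hx d hd
      rw [show n * d * x * (n * d)⁻¹ = n * (d * x * d⁻¹) * n⁻¹ by group, hdy]
      have hA' : (A.map ι).map (MulAut.conj n⁻¹).toMonoidHom ≤ (S : Subgroup G) := by
        rintro _ ⟨b, hb, rfl⟩
        simp only [MulEquiv.toMonoidHom_eq_coe, MonoidHom.coe_coe, MulAut.conj_apply, inv_inv]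
        exact ((mem_normalizer_iff''.mp hn b).mp ⟨map_subtype_le A hb, hAD hb⟩).1
      have h1 := hFZ _ (hconj _ ⟨A, hA, rfl⟩ n⁻¹ hA') (n⁻¹ * a * n) ⟨a, ha, by simp⟩ y hy
      calc a * (n * y * n⁻¹) = n * (n⁻¹ * a * n * y) * n⁻¹ := by group
        _ = _ := by rw [h1]; group
    exact hEA ((closure_le _).mpr fun x hx => hmemF _ ⟨A, hA, rfl⟩ x (hBS hx.1) hx.2
      fun a ha => mem_centralizer_iff.mp (hBA hx.1) a ha)

end Cfsg.Agent.Lib.Thompson
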