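import Cfsg.Agent.Lib.Thompson.Cyclic
import Cfsg.Agent.Lib.Uniq.Alperin
import Cfsg.Agent.Lib.Hall.OddRankTwo
import Cfsg.Prelude.Def_PLocal
import Cfsg.Prelude.Def_OddOrderLocal

/-!
`p`-groups of rank at most two: normal subgroups of small order, `Ω₁`, quotients, metacyclicity.
-/

set_option autoImplicit false

namespace Cfsg.Agent.Lib.Thompson

open Subgroup
open scoped commutatorElement

universe u

/-- A normal subgroup of a p-group contains normal subgroups of all smaller p-power orders. -/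
theorem exists_normal_le_card {G : Type*} [Group G] [Finite G] {p : ℕ} [hp : Fact p.Prime]
    (hG : IsPGroup p G) {N : Subgroup G} [hN : N.Normal] (k : ℕ) (hk : p ^ k ≤ Nat.card N) :
    ∃ M : Subgroup G, M ≤ N ∧ M.Normal ∧ Nat.card M = p ^ k := by
  induction k with
  | zero => exact ⟨⊥, bot_le, inferInstance, by simp⟩
  | succ k ih =>
    have hlt : p ^ k < p ^ (k + 1) := Nat.pow_lt_pow_right hp.out.one_lt (Nat.lt_succ_self k)
    obtain ⟨M, hMN, hMn, hMc⟩ := ih (hlt.le.trans hk)
    let π := QuotientGroup.mk' M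
    have : (N.map π).Normal := hN.map _ (QuotientGroup.mk'_surjective M)
    have hne : N.map π ≠ ⊥ := fun h => by
      rw [Subgroup.map_eq_bot_iff, QuotientGroup.ker_mk'] at h
      have h' := card_le_of_le h
      omega
    obtain ⟨z, hzN, hzc, hzo⟩ := exists_central_order_p (hG.to_quotient M) hne
    have hzn : (zpowers z).Normal := normal_of_le_center (zpowers_le.mpr hzc)
    refine ⟨(zpowers z).comap π, ?_, hzn.comap π, ?_⟩
    · refine (comap_mono (zpowers_le.mpr hzN)).trans ?_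
      rw [comap_map_eq, QuotientGroup.ker_mk']
      exact sup_le le_rfl hMN
    · have h := Coprime.card_map_mul_card_inf_ker π ((zpowers z).comap π)
      rw [map_comap_eq_self_of_surjective (QuotientGroup.mk'_surjective M), QuotientGroup.ker_mk',
        inf_eq_right.mpr, Nat.card_zpowers, hzo, hMc] at h
      · rw [← h, pow_succ']
      · intro x hx
        rw [mem_comap, show π x = 1 from (QuotientGroup.eq_one_iff x).mpr hx]
        exact one_mem _

variable {R : Type*} [Group R] [Finite R] {p : ℕ} [hp : Fact p.Prime]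

/-- S0100. -/
theorem pRankLE_two_of_no_normal (hp2 : p ≠ 2) (hR : IsPGroup p R)
    (h : ∀ A : Subgroup R, A.Normal → IsMulCommutative A → (∀ a ∈ A, a ^ p = 1) → Nat.card A ≠ p ^ 3) :
    Cfsg.PRankLE p 2 R := by
  by_contra hr
  have hnc : ¬ IsCyclic (⊤ : Subgroup R) := fun hc => by
    haveI := hc
    simp only [PRankLE, not_forall, not_le] at hr
    obtain ⟨F, hF, hFp, hF3⟩ := hr
    refine Components.Sig.not_cyclic (A := F) ⟨hF, hFp⟩ hF3.le ?_
    exact isCyclic_of_injective (inclusion (le_top : F ≤ ⊤)) (inclusion_injective _)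
  obtain ⟨U, hU, hUc, -⟩ : ∃ U : Subgroup R, (U.Normal ∧ IsElementaryAbelian p U) ∧ Nat.card U = p ^ 2 ∧
      True := by
    obtain ⟨A, -, h1, h2, h3⟩ := exists_elemAbelian_normal hp2 hR ⊤ hnc
    exact ⟨A, ⟨h1, h2⟩, h3, trivial⟩
  haveI := hU.1
  have hidx : (centralizer (U : Set R)).index ≤ p := by
    obtain ⟨U', hU', -, -, hUc', -, hi⟩ := Uniq.exists_small_pair (P := (⊤ : Subgroup R))
      (hR.to_subgroup ⊤) le_top (by rw [Subgroup.normalizer_eq_top]) hU.2 (by
        rw [hUc, pow_two]; exact lt_mul_of_one_lt_left hp.out.pos hp.out.one_lt)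
    rw [eq_of_le_of_card_ge hU' (by rw [hUc, hUc']), relIndex_top_right] at hi
    exact hi
  obtain ⟨A, -, hAn, hAC, hA3⟩ := Uniq.exists_scn_three hp2 hR hr U hU.2 hUc hidx
  have hAc : IsMulCommutative A := le_centralizer_iff_isMulCommutative.mp hAC.ge
  let W : Subgroup R :=
    { carrier := {a | a ∈ A ∧ a ^ p = 1}
      one_mem' := ⟨one_mem A, one_pow p⟩
      mul_mem' := fun {a b} ha hb => ⟨mul_mem ha.1 hb.1, by
        have hc : Commute a b := mem_centralizer_iff.mp (hAC.ge hb.1) a ha.1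
        rw [hc.mul_pow, ha.2, hb.2, one_mul]⟩
      inv_mem' := fun {a} ha => ⟨inv_mem ha.1, by rw [inv_pow, ha.2, inv_one]⟩ }
  haveI hWn : W.Normal := ⟨fun a ha g => ⟨hAn.conj_mem a ha.1 g, by rw [conj_pow, ha.2]; simp⟩⟩
  have hW3 : p ^ 3 ≤ Nat.card W := by
    simp only [PRankLE, not_forall, not_le] at hA3
    obtain ⟨F, hF, hFp, hF3⟩ := hA3
    have hle : F.map A.subtype ≤ W := by
      rintro _ ⟨f, hf, rfl⟩
      exact ⟨f.2, by rw [← map_pow, hFp f hf, map_one]⟩
    have h1 := card_le_of_le hle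
    rw [card_subtype] at h1
    obtain ⟨k, hk⟩ := IsPGroup.iff_card.mp ((hR.to_subgroup A).to_subgroup F)
    have h2 : 2 < k := (Nat.pow_lt_pow_iff_right hp.out.one_lt).mp (hk ▸ hF3)
    exact le_trans (Nat.pow_le_pow_right hp.out.pos h2) (hk ▸ h1)
  obtain ⟨M, hMW, hMn, hMc⟩ := exists_normal_le_card hR 3 hW3
  refine h M hMn ⟨⟨fun a b => Subtype.ext ?_⟩⟩ (fun a ha => (hMW ha).2) hMc
  exact mem_centralizer_iff.mp (hAC.ge (hMW b.2).1) a (hMW a.2).1

/-- A `p`-group of order at most `p^4` has class at most three. -/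
theorem class_three_of_card_le (hR : IsPGroup p R) (h : Nat.card R ≤ p ^ 4) :
    ⁅⁅commutator R, (⊤ : Subgroup R)⁆, (⊤ : Subgroup R)⁆ = ⊥ := by
  haveI : Group.IsNilpotent R := hR.isNilpotent
  by_contra h3
  have hne : ∀ N : Subgroup R, ⁅N, (⊤ : Subgroup R)⁆ ≠ ⊥ → N.Normal →
      p * Nat.card (⁅N, (⊤ : Subgroup R)⁆ : Subgroup R) ≤ Nat.card N := fun N h hn => by
    haveI := hn
    refine card_mul_p_le hR (lt_of_le_of_ne (commutator_le_left N ⊤) fun he => h ?_)
    rw [he]; exact Transfer.eq_bot_of_le_commutator_top he.ge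
  have h2 : ⁅commutator R, (⊤ : Subgroup R)⁆ ≠ ⊥ := fun h2 => h3 (by rw [h2, commutator_bot_left])
  have hp3 : p ≤ Nat.card (⁅⁅commutator R, (⊤ : Subgroup R)⁆, (⊤ : Subgroup R)⁆ : Subgroup R) :=
    Nat.le_of_dvd Nat.card_pos ((hR.to_subgroup _).card_eq_or_dvd.resolve_left
      fun e => h3 (card_eq_one.mp e))
  have e2 := hne _ h3 inferInstance
  have e1 := hne _ h2 inferInstance
  have hc : p ^ 3 ≤ Nat.card (commutator R) := by
    refine le_trans ?_ e1
    rw [pow_succ', pow_two]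
    exact Nat.mul_le_mul_left p ((Nat.mul_le_mul_left p hp3).trans e2)
  -- the index of the derived subgroup is at most `p`
  refine h2 ?_
  suffices hab : commutator R = ⊥ by rw [hab, commutator_bot_left]
  by_cases htop : ∀ x y : R, Commute x y
  · rw [commutator_eq_bot_iff]
    exact ⟨⟨htop⟩⟩
  exfalso
  obtain ⟨x, y, hxy⟩ : ∃ x y : R, ¬ Commute x y := by push Not at htop; exact htop
  have hΦ := PGroupFrattini.commutator_le_frattini (p := p) hR
  have hlt : commutator R < ⊤ := lt_of_le_of_ne le_top fun e => by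
    have : frattini R = ⊤ := top_le_iff.mp (e ▸ hΦ)
    have hbot := frattini_nongenerating (K := (⊥ : Subgroup R)) (by rw [bot_sup_eq, this])
    exact hxy ((mem_bot.mp (hbot.ge (mem_top x))).symm ▸ Commute.one_left y)
  have hK : ∀ g : R, g ∉ commutator R → ∀ w : R, w ∈ commutator R ⊔ zpowers g := by
    intro g hg w
    have hlt' : commutator R < commutator R ⊔ zpowers g :=
      lt_of_le_of_ne le_sup_left fun e => hg (e ▸ mem_sup_right (mem_zpowers g))
    have e := card_mul_p_le hR hlt'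
    have htop' : commutator R ⊔ zpowers g = ⊤ := by
      refine eq_of_le_of_card_ge le_top ?_
      rw [card_top]
      calc Nat.card R ≤ p ^ 4 := h
        _ = p * p ^ 3 := pow_succ' p 3
        _ ≤ p * Nat.card (commutator R) := Nat.mul_le_mul_left p hc
        _ ≤ _ := e
    exact htop' ▸ mem_top w
  obtain ⟨g, -, hg⟩ := SetLike.exists_of_lt hlt
  have hgen : zpowers g = ⊤ := frattini_nongenerating
    (top_le_iff.mp fun w _ => (sup_le (hΦ.trans le_sup_right) le_sup_left :
      commutator R ⊔ zpowers g ≤ zpowers g ⊔ frattini R) (hK g hg w))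
  obtain ⟨i, rfl⟩ := hgen.ge (mem_top x)
  obtain ⟨j, rfl⟩ := hgen.ge (mem_top y)
  exact hxy ((Commute.refl g).zpow_zpow i j)

theorem pRankLE_subgroup {k : ℕ} (hr : Cfsg.PRankLE p k R) (H : Subgroup R) : Cfsg.PRankLE p k H := by
  intro A hA hAp
  haveI := hA
  rw [← card_subtype H A]
  refine hr (A.map H.subtype) inferInstance ?_
  rintro _ ⟨a, ha, rfl⟩
  rw [← map_pow, hAp a ha, map_one]

/-- S0128. -/
theorem pow_mul_eq_one_rank_two {G : Type*} [Group G] [Finite G] (h3p : 3 < p) (hG : IsPGroup p G)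
    (hr : Cfsg.PRankLE p 2 G) {x y : G} (hx : x ^ p = 1) (hy : y ^ p = 1) : (x * y) ^ p = 1 := by
  suffices key : ∀ (n : ℕ) (H : Subgroup G), Nat.card H = n → ∀ x y : G, x ∈ H → y ∈ H →
      x ^ p = 1 → y ^ p = 1 → (x * y) ^ p = 1 from key _ ⊤ rfl x y (mem_top x) (mem_top y) hx hy
  intro n
  induction n using Nat.strong_induction_on with
  | _ n ih =>
  rintro H rfl x y hxH hyH hx hy
  by_cases hc : Commute x y
  · rw [hc.mul_pow, hx, hy, one_mul]
  set U := closure ({x, y} : Set G) with hU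
  have hUH : U ≤ H := (closure_le H).mpr (by simp [Set.insert_subset_iff, hxH, hyH])
  by_cases hUlt : U < H
  · exact ih _ (Transfer.card_lt_of_subgroup_lt hUlt) U rfl x y (subset_closure (by simp))
      (subset_closure (by simp)) hx hy
  have hUeq : U = H := eq_of_le_of_not_lt hUH hUlt
  -- a maximal subgroup containing `x`
  let x' : H := ⟨x, hxH⟩
  let y' : H := ⟨y, hyH⟩
  have hne : zpowers x' ≠ ⊤ := fun e => by
    obtain ⟨i, hi⟩ := mem_zpowers_iff.mp (e.ge (mem_top y'))
    have hi' : x ^ i = y := by simpa [x', y'] using congrArg Subtype.val hi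
    exact hc (hi' ▸ (Commute.refl x).zpow_right i)
  obtain ⟨M, hM, hxM⟩ := (eq_top_or_exists_le_coatom _).resolve_left hne
  have hHp := hG.to_subgroup H
  obtain ⟨hMn, -⟩ := PGroupFrattini.coatom_index hHp hM
  haveI := hMn
  have hMlt : Nat.card (M.map H.subtype) < Nat.card H := by
    rw [card_subtype]; exact Coprime.card_lt_of_ne_top hM.1
  let W : Subgroup H :=
    { carrier := {m | m ∈ M ∧ m ^ p = 1}
      one_mem' := ⟨one_mem M, one_pow p⟩
      mul_mem' := fun {a b} ha hb => ⟨mul_mem ha.1 hb.1, Subtype.ext (by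
        simpa using ih _ hMlt (M.map H.subtype) rfl (a : G) (b : G) (mem_map_of_mem _ ha.1)
          (mem_map_of_mem _ hb.1) (by simpa using congrArg Subtype.val ha.2)
          (by simpa using congrArg Subtype.val hb.2))⟩
      inv_mem' := fun {a} ha => ⟨inv_mem ha.1, by rw [inv_pow, ha.2, inv_one]⟩ }
  haveI hWn : W.Normal := ⟨fun a ha g => ⟨hMn.conj_mem a ha.1 g, by rw [conj_pow, ha.2]; simp⟩⟩
  have hWexp : ∀ w : W, w ^ p = 1 := fun w => Subtype.ext ((SubmonoidClass.coe_pow w p).trans w.2.2)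
  have hW3 : Nat.card W ≤ p ^ 3 := by
    rcases Hall.exponent_p_rank_two hWexp (pRankLE_subgroup (pRankLE_subgroup hr H) W) with
      ⟨-, h⟩ | ⟨-, h1, h2⟩
    · exact h.trans (Nat.pow_le_pow_right hp.out.pos (by norm_num))
    · rw [← (center W).card_mul_index, h1, index_eq_card, pow_succ']
      exact Nat.mul_le_mul_left p h2
  have hx' : x' ^ p = 1 := Subtype.ext (by simpa [x'] using hx)
  have hy' : y' ^ p = 1 := Subtype.ext (by simpa [y'] using hy)
  have hxW : x' ∈ W := ⟨hxM (mem_zpowers x'), hx'⟩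
  have hsup : W ⊔ zpowers y' = ⊤ := by
    rw [eq_top_iff]
    intro w _
    have hle : U ≤ (W ⊔ zpowers y').map H.subtype := by
      rw [hU, closure_le]
      rintro z (rfl | rfl)
      · exact ⟨x', mem_sup_left hxW, rfl⟩
      · exact ⟨y', mem_sup_right (mem_zpowers y'), rfl⟩
    obtain ⟨w', hw', he⟩ := hle (hUeq.ge w.2)
    exact Subtype.ext he ▸ hw'
  have hcard : Nat.card H ≤ p ^ 4 := by
    rw [← card_top (G := H), ← hsup]
    refine (Nat.le_mul_of_pos_right _ (Nat.card_pos (α := (zpowers y' ⊓ W : Subgroup H)))).trans ?_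
    rw [sup_comm, Coprime.card_sup_mul_card_inf, pow_succ' p 3, Nat.card_zpowers]
    exact Nat.mul_le_mul (Nat.le_of_dvd hp.out.pos (orderOf_dvd_of_pow_eq_one hy')) hW3
  have h := pow_mul_eq_one_class_three h3p (class_three_of_card_le hHp hcard) hx' hy'
  simpa [x', y'] using congrArg Subtype.val h

theorem pow_eq_one_of_mem_closure_rank_two {G : Type*} [Group G] [Finite G] (h3p : 3 < p)
    (hG : IsPGroup p G) (hr : Cfsg.PRankLE p 2 G) {g : G} (hg : g ∈ closure {x : G | x ^ p = 1}) :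
    g ^ p = 1 := by
  induction hg using closure_induction with
  | mem x hx => exact hx
  | one => exact one_pow p
  | mul a b _ _ ha hb => exact pow_mul_eq_one_rank_two h3p hG hr ha hb
  | inv a _ ha => rw [inv_pow, ha, inv_one]

/-- The key step of S0637. -/
theorem omega_quotient_central (h3p : 3 < p) (hR : IsPGroup p R)
    (hO : Nat.card ↥(Cfsg.omegaOne p (⊤ : Subgroup R)) ≤ p ^ 2) (Z : Subgroup R) [Z.Normal]
    (hZc : Z ≤ center R) (hZp : Nat.card Z = p) :
    Nat.card ↥(Cfsg.omegaOne p (⊤ : Subgroup (R ⧸ Z))) ≤ p ^ 2 := by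
  by_contra hgt
  rw [not_le] at hgt
  have hQ := hR.to_quotient Z
  obtain ⟨B, hB, hB3⟩ : ∃ B : Subgroup (R ⧸ Z), (∀ b ∈ B, b ^ p = 1) ∧ p ^ 2 < Nat.card B := by
    by_cases hr : Cfsg.PRankLE p 2 (R ⧸ Z)
    · refine ⟨_, fun b hb => pow_eq_one_of_mem_closure_rank_two h3p hQ hr ?_, hgt⟩
      exact closure_mono (fun x hx => hx.2) hb
    · simp only [PRankLE, not_forall, not_le] at hr
      obtain ⟨B, -, h1, h2⟩ := hr
      exact ⟨B, h1, h2⟩
  obtain ⟨k, hk⟩ := IsPGroup.iff_card.mp (hQ.to_subgroup B)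
  have hk3 : 3 ≤ k := (Nat.pow_lt_pow_iff_right hp.out.one_lt).mp (hk ▸ hB3)
  obtain ⟨B₀, hB₀⟩ := Sylow.exists_subgroup_card_pow_prime (G := B) p
    (n := 3) (hk ▸ pow_dvd_pow p hk3)
  set π := QuotientGroup.mk' Z with hπ
  set X := (B₀.map B.subtype).comap π with hX
  have hBexp : ∀ x : X, ((x : R)) ^ p ∈ Z := fun x => by
    obtain ⟨b, -, hb⟩ := mem_comap.mp x.2
    refine (QuotientGroup.eq_one_iff ((x : R) ^ p)).mp ?_
    show π ((x : R) ^ p) = 1
    rw [map_pow, ← hb]
    exact hB _ b.2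
  have hXcard : Nat.card X = p * p ^ 3 := by
    have h := Coprime.card_map_mul_card_inf_ker π X
    rw [hX, map_comap_eq_self_of_surjective (QuotientGroup.mk'_surjective Z), card_subtype, hB₀,
      hπ, QuotientGroup.ker_mk', inf_eq_right.mpr, hZp] at h
    · rw [hX, hπ, ← h, mul_comm]
    · intro z hz
      rw [mem_comap, show QuotientGroup.mk' Z z = 1 from (QuotientGroup.eq_one_iff z).mpr hz]
      exact one_mem _
  have hXp := hR.to_subgroup X
  have h3 := class_three_of_card_le hXp (by rw [hXcard, pow_succ' p 3])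
  have hcen : ∀ x w : X, Commute (x ^ p) w := fun x w => Subtype.ext (by
    simpa using (mem_center_iff.mp (hZc (hBexp x)) (w : R)).symm)
  have hmul : ∀ x y : X, (x * y) ^ p = x ^ p * y ^ p := by
    intro x y
    obtain ⟨c, a, b, -, hc, ha, hb, hac, hbc⟩ := exists_class_three_data h3 x y
    obtain ⟨-, h2, -, -, h5⟩ := class_three_pow hc ha hb hac hbc p
    rw [(hcen y x).eq, mul_assoc (x * y ^ p), eq_comm, mul_eq_left] at h2
    have hcp : c ^ p = (b ^ p.choose 2)⁻¹ := eq_inv_of_mul_eq_one_left h2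
    rw [hcp, ((hbc y).pow_left _).inv_left.eq, eq_comm, mul_eq_left] at h5
    obtain ⟨l, hl⟩ := Nat.Prime.dvd_choose_self hp.out two_ne_zero (by omega : 2 < p)
    rw [hl, pow_mul, h5, one_pow, inv_one] at hcp
    exact pow_mul_eq_class_three h3p hc ha hb hac hbc hcp
  let f : X →* Z :=
    { toFun := fun x => ⟨(x : R) ^ p, hBexp x⟩
      map_one' := Subtype.ext (one_pow p)
      map_mul' := fun x y => Subtype.ext (by simpa using congrArg Subtype.val (hmul x y)) }
  have h1 := f.ker.card_mul_index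
  rw [hXcard, index_ker] at h1
  have hker : Nat.card f.ker ≤ p ^ 2 := by
    refine le_trans ?_ hO
    rw [← card_subtype X f.ker]
    refine card_le_of_le ?_
    rintro _ ⟨x, hx, rfl⟩
    exact subset_closure ⟨mem_top _, congrArg Subtype.val (MonoidHom.mem_ker.mp hx)⟩
  have hrange : Nat.card f.range ≤ p := hZp ▸ Nat.card_le_card_of_injective _ f.range.subtype_injective
  have := Nat.mul_le_mul hker hrange
  rw [h1] at this
  have : p * p ^ 3 ≤ p ^ 3 := this.trans (pow_succ p 2).ge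
  have hpos : 0 < p ^ 3 := pow_pos hp.out.pos 3
  have hp2 := hp.out.two_le
  nlinarith

end Cfsg.Agent.Lib.Thompson
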